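import Cfsg.Agent.Marggraf.Overlap

/-!
# Jordan sets of a 4-transitive group of minimal degree `k`
-/

namespace Cfsg.Agent.Marggraf

open Equiv Equiv.Perm MulAction
open scoped commutatorElement Pointwise

variable {α : Type*} [DecidableEq α] [Fintype α] {G : Subgroup (Perm α)} {Γ : Finset α}

theorem union_top (hG : IsPreprimitive G α) (hΓ : JSet G Γ) {T : Finset α} (hT : JSet G T)
    (hΓ2 : 2 ≤ Γ.card) (hTk : T.card = Γ.card) (hT1 : (Γ \ T).card = 1)
    (hn : Fintype.card α = 2 * Γ.card + 1) : alternatingGroup α ≤ G := by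
  obtain ⟨e', he'⟩ := Finset.card_eq_one.mp (show (T \ Γ).card = 1 by
    have := Finset.card_sdiff_add_card_inter Γ T
    have := Finset.card_sdiff_add_card_inter T Γ
    rw [Finset.inter_comm T Γ] at this
    omega)
  have heT : e' ∈ T ∧ e' ∉ Γ := Finset.mem_sdiff.mp (he' ▸ Finset.mem_singleton_self e')
  set U := Γ ∪ T with hU
  have hne : (Γ ∩ T).Nonempty := Finset.card_pos.mp (by
    have := Finset.card_sdiff_add_card_inter Γ T
    omega)
  have hUJ : JSet G U := hΓ.union hT hne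
  have hUe : ∀ z, z ∈ U → z ≠ e' → z ∈ Γ := fun z hz hze => by
    rcases Finset.mem_union.mp hz with h | h
    · exact h
    · by_contra h'
      exact hze (Finset.mem_singleton.mp (he' ▸ Finset.mem_sdiff.mpr ⟨h, h'⟩))
  have hUc : U.card = Γ.card + 1 := by
    have := Finset.card_union_add_card_inter Γ T
    have := Finset.card_sdiff_add_card_inter Γ T
    rw [hU]; omega
  set s : Set α := (U : Set α)ᶜ with hs
  have hmem : ∀ z, z ∈ SubMulAction.ofFixingSubgroup G s ↔ z ∈ U := fun z => by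
    rw [SubMulAction.mem_ofFixingSubgroup_iff, hs, Set.mem_compl_iff, not_not, Finset.mem_coe]
  have h2 : IsMultiplyPretransitive ↥(fixingSubgroup G s) ↥(SubMulAction.ofFixingSubgroup G s) 2 := by
    rw [is_two_pretransitive_iff]
    intro a b c d hab hcd
    have mv : ∀ u v, u ∈ U → v ∈ U → ∃ g ∈ fixingSubgroup G s, (g : Perm α) u = v := fun u v hu hv => by
      obtain ⟨g, hg, hfix, e⟩ := hUJ u hu v hv
      exact ⟨⟨g, hg⟩, (mem_fixingSubgroup_iff _).mpr fun z hz => hfix z (by simpa [hs] using hz), e⟩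
    have heU : e' ∈ U := Finset.mem_union_right _ heT.1
    obtain ⟨g₁, hg₁, e₁⟩ := mv a.1 e' ((hmem _).mp a.2) heU
    obtain ⟨g₂, hg₂, e₂⟩ := mv c.1 e' ((hmem _).mp c.2) heU
    have stay : ∀ g ∈ fixingSubgroup G s, ∀ u ∈ U, (g : Perm α) u ∈ U := by
      intro g hg u hu
      by_contra h
      have h1 : (g : Perm α) ((g : Perm α) u) = (g : Perm α) u :=
        (mem_fixingSubgroup_iff _).mp hg _ (by simpa [hs] using h)
      exact h ((((g : Perm α).injective h1).symm) ▸ hu)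
    have hb : (g₁ : Perm α) b.1 ∈ Γ := hUe _ (stay g₁ hg₁ _ ((hmem _).mp b.2))
      (fun e => hab (Subtype.ext ((g₁ : Perm α).injective (e₁.trans e.symm))))
    have hd : (g₂ : Perm α) d.1 ∈ Γ := hUe _ (stay g₂ hg₂ _ ((hmem _).mp d.2))
      (fun e => hcd (Subtype.ext ((g₂ : Perm α).injective (e₂.trans e.symm))))
    obtain ⟨j, hjG, hjfix, hj⟩ := hΓ _ hb _ hd
    have hjs : (⟨j, hjG⟩ : G) ∈ fixingSubgroup G s :=
      (mem_fixingSubgroup_iff _).mpr fun z hz => hjfix z fun h =>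
        (by simpa [hs] using hz : z ∉ U) (Finset.mem_union_left _ h)
    refine ⟨⟨g₂⁻¹ * ⟨j, hjG⟩ * g₁, mul_mem (mul_mem (inv_mem hg₂) hjs) hg₁⟩, Subtype.ext ?_, Subtype.ext ?_⟩
    · show ((g₂ : Perm α)⁻¹ * j * (g₁ : Perm α)) a.1 = c.1
      rw [Perm.mul_apply, Perm.mul_apply, e₁, hjfix e' heT.2, Perm.inv_eq_iff_eq, e₂]
    · show ((g₂ : Perm α)⁻¹ * j * (g₁ : Perm α)) b.1 = d.1
      rw [Perm.mul_apply, Perm.mul_apply, hj, Perm.inv_eq_iff_eq]
  have ht : IsMultiplyPretransitive G α (Γ.card + 2) := by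
    refine S0712.result G hG s (m := Γ.card) ?_ (by omega) h2
    rw [hs, ← Finset.coe_compl, Set.ncard_coe_finset, Finset.card_compl, hUc, hn]
    omega
  obtain ⟨a, ha⟩ := hne
  obtain ⟨b, hb, hba⟩ := Finset.exists_mem_ne (show 1 < Γ.card by omega) a
  obtain ⟨x, hx, hfix, hxab⟩ := hΓ a (Finset.mem_inter.mp ha).1 b hb
  have hsub : x.support ⊆ Γ := fun z hz => by_contra fun h => Perm.mem_support.mp hz (hfix z h)
  have := Finset.card_le_card hsub
  exact of_short hG ht hx (fun e => hba (by rw [← hxab, e, Perm.one_apply])) (by omega) (by omega) (by omega)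

theorem average (h4 : IsMultiplyPretransitive G α 4) (hG : IsPreprimitive G α) (hΓ : JSet G Γ)
    (hk : 4 ≤ Γ.card) (hn : 2 * Γ.card < Fintype.card α)
    (hmin : ∀ g ∈ G, g ≠ 1 → Γ.card ≤ g.support.card) : alternatingGroup α ≤ G := by
  classical
  set k := Γ.card with hk'
  set n := Fintype.card α with hn'
  obtain ⟨e⟩ : Nonempty (Fin 4 ↪ {z // z ∈ Γ}) :=
    Function.Embedding.nonempty_of_card_le (by simpa using hk)
  have h₀ : Distinct4 (e 0 : α) (e 1) (e 2) (e 3) :=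
    ⟨Subtype.coe_injective.ne (e.injective.ne (by decide)), Subtype.coe_injective.ne (e.injective.ne (by decide)),
      Subtype.coe_injective.ne (e.injective.ne (by decide)), Subtype.coe_injective.ne (e.injective.ne (by decide)),
      Subtype.coe_injective.ne (e.injective.ne (by decide)), Subtype.coe_injective.ne (e.injective.ne (by decide))⟩
  set K := (fibre G (e 0 : α) (e 1) (e 2) (e 3) (e 0) (e 1) (e 2) (e 3)).card with hK
  have hKpos : 0 < K := Finset.card_pos.mpr ⟨1, by simp [fibre]⟩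
  have hn4 : 4 ≤ Fintype.card α := by omega
  have hc : Γᶜ.card = n - k := Finset.card_compl Γ
  let T : ↥G → Finset α := fun h => Γ.map (h : Perm α)⁻¹.toEmbedding
  have hT : ∀ (h : ↥G) z, z ∈ T h ↔ (h : Perm α) z ∈ Γ := fun h z => by
    simp only [T, Finset.mem_map_equiv]
    rfl
  have hI : ∀ h : ↥G, (Γ ∩ T h).card = (Γ.filter fun z => (h : Perm α) z ∈ Γ).card := fun h => by
    congr 1; ext z; simp [hT]
  have hov : ∀ (h : ↥G) {a b : α}, a ∈ Γ → b ∈ Γ → (h : Perm α) a ∈ Γ → (h : Perm α) b ∉ Γ →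
      k ≤ 2 * (Γ.filter fun z => (h : Perm α) z ∈ Γ).card + 1 := by
    intro h a b ha hb hha hhb
    rw [← hI]
    exact overlap hmin hΓ rfl (hΓ.map (inv_mem h.2)) (Finset.card_map _)
      ⟨a, Finset.mem_inter.mpr ⟨ha, (hT h a).mpr hha⟩⟩
      (fun e => hhb ((hT h b).mp (e ▸ hb)))
  have key : ∀ a ∈ Γ, ∀ b ∈ Γ, ∀ c ∈ Γ, a ≠ b → a ≠ c → b ≠ c →
      n = 2 * k + 1 ∧ ∀ h : ↥G, (h : Perm α) a ∈ Γ → (h : Perm α) b ∉ Γ → (h : Perm α) c ∉ Γ →
        k = 2 * (Γ.filter fun z => (h : Perm α) z ∈ Γ).card + 1 := by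
    intro a ha b hb c hc' hab hac hbc
    set E : Finset ↥G := Finset.univ.filter fun h =>
      (h : Perm α) a ∈ Γ ∧ (h : Perm α) b ∈ Γᶜ ∧ (h : Perm α) c ∈ Γᶜ with hE
    set P := k * ((n - k) * (n - k - 1)) * K with hP
    have hEc : E.card = P * (n - 3) := by
      have e1 : E = Finset.univ.filter fun h : ↥G =>
          (h : Perm α) b ∈ Γᶜ ∧ (h : Perm α) a ∈ Γ ∧ (h : Perm α) c ∈ Γᶜ := by
        ext h; simp only [hE, Finset.mem_filter]; tauto
      have h3 := card_alternating3 Γᶜ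
      rw [compl_compl, hc, ← hn', show n - (n - k) = k by omega] at h3
      rw [e1, count3 h4 hab.symm hbc hac h₀ hn4, h3, hP, ← hn', ← hK]
      ring
    have hsum : ∑ h ∈ E, (Γ.filter fun z => (h : Perm α) z ∈ Γ).card =
        P * ((n - 3) + (k - 3) * (k - 1)) := by
      rw [sum_card_swap]
      have hbE : c ∈ (Γ.erase a).erase b :=
        Finset.mem_erase.mpr ⟨hbc.symm, Finset.mem_erase.mpr ⟨hac.symm, hc'⟩⟩
      rw [← Finset.sum_erase_add Γ _ ha, ← Finset.sum_erase_add (Γ.erase a) _ (Finset.mem_erase.mpr ⟨hab.symm, hb⟩),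
        ← Finset.sum_erase_add ((Γ.erase a).erase b) _ hbE]
      have hz0 : ∀ u, (u = b ∨ u = c) → (E.filter fun h : ↥G => (h : Perm α) u ∈ Γ).card = 0 := by
        intro u hu
        rw [Finset.card_eq_zero, Finset.filter_eq_empty_iff]
        intro h hh hh'
        simp only [hE, Finset.mem_filter, Finset.mem_univ, true_and, Finset.mem_compl] at hh
        rcases hu with rfl | rfl
        · exact hh.2.1 hh'
        · exact hh.2.2 hh'
      have hza : (E.filter fun h : ↥G => (h : Perm α) a ∈ Γ) = E := by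
        refine Finset.filter_true_of_mem fun h hh => ?_
        simp only [hE, Finset.mem_filter] at hh
        exact hh.2.1
      have hrest : ∀ z ∈ ((Γ.erase a).erase b).erase c,
          (E.filter fun h : ↥G => (h : Perm α) z ∈ Γ).card = P * (k - 1) := by
        intro z hz
        simp only [Finset.mem_erase] at hz
        have e1 : (E.filter fun h : ↥G => (h : Perm α) z ∈ Γ) = Finset.univ.filter fun h : ↥G =>
            (h : Perm α) a ∈ Γ ∧ (h : Perm α) b ∈ Γᶜ ∧ (h : Perm α) z ∈ Γ ∧ (h : Perm α) c ∈ Γᶜ := by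
          ext h; simp only [hE, Finset.mem_filter]; tauto
        rw [e1, count4 h4 ⟨hab, Ne.symm hz.2.2.1, hac, Ne.symm hz.2.1, hbc, hz.1⟩ h₀,
          card_alternating4, hP, ← hn', ← hK, ← hk']
        ring
      rw [Finset.sum_congr rfl hrest, Finset.sum_const, smul_eq_mul, hza, hz0 b (Or.inl rfl),
        hz0 c (Or.inr rfl), hEc, Finset.card_erase_of_mem hbE,
        Finset.card_erase_of_mem (Finset.mem_erase.mpr ⟨hab.symm, hb⟩), Finset.card_erase_of_mem ha,
        show Γ.card - 1 - 1 - 1 = k - 3 by omega]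
      ring
    have hle : ∀ h ∈ E, k ≤ 2 * (Γ.filter fun z => (h : Perm α) z ∈ Γ).card + 1 := fun h hh => by
      simp only [hE, Finset.mem_filter, Finset.mem_univ, true_and, Finset.mem_compl] at hh
      exact hov h ha hb hh.1 hh.2.1
    have hs := Finset.sum_le_sum hle
    have hPpos : 0 < P := Nat.mul_pos (Nat.mul_pos (by omega) (Nat.mul_pos (by omega) (by omega))) hKpos
    have hS : ∑ h ∈ E, (2 * (Γ.filter fun z => (h : Perm α) z ∈ Γ).card + 1) =
        P * (2 * ((n - 3) + (k - 3) * (k - 1)) + (n - 3)) := by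
      rw [Finset.sum_add_distrib, ← Finset.mul_sum, hsum, Finset.sum_const, smul_eq_mul, hEc]
      ring
    rw [hS, Finset.sum_const, smul_eq_mul, hEc] at hs
    have hn21 : n = 2 * k + 1 := by
      have h' : (n - 3) * k ≤ 2 * ((n - 3) + (k - 3) * (k - 1)) + (n - 3) :=
        Nat.le_of_mul_le_mul_left (by rwa [← mul_assoc]) hPpos
      obtain ⟨k₀, hk₀⟩ := Nat.exists_eq_add_of_le hk
      obtain ⟨d, hd⟩ := Nat.exists_eq_add_of_le (show 2 * k + 1 ≤ n by omega)
      have : d * (k₀ + 1) ≤ 0 := by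
        rw [hd, hk₀, show 2 * (4 + k₀) + 1 + d - 3 = 2 * k₀ + 6 + d by omega,
          show 4 + k₀ - 3 = k₀ + 1 by omega, show 4 + k₀ - 1 = k₀ + 3 by omega] at h'
        nlinarith
      have : d = 0 := by
        rcases Nat.mul_eq_zero.mp (Nat.le_zero.mp this) with h | h <;> omega
      omega
    refine ⟨hn21, ?_⟩
    intro h h1 h2 h3
    refine (Finset.sum_eq_sum_iff_of_le hle).mp ?_ h (by simp [hE, h1, h2, h3])
    rw [hS, Finset.sum_const, smul_eq_mul, hEc, hn21]
    obtain ⟨k₀, hk₀⟩ := Nat.exists_eq_add_of_le hk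
    rw [hk₀, show 2 * (4 + k₀) + 1 - 3 = 2 * k₀ + 6 by omega, show 4 + k₀ - 3 = k₀ + 1 by omega,
      show 4 + k₀ - 1 = k₀ + 3 by omega]
    ring
  obtain ⟨a, b, c, d, hab, hac, had, hbc, hbd, hcd⟩ :=
    (⟨_, _, _, _, h₀⟩ : ∃ a b c d : α, Distinct4 a b c d)
  have hea : ∃ a ∈ Γ, ∃ b ∈ Γ, ∃ c ∈ Γ, a ≠ b ∧ a ≠ c ∧ b ≠ c :=
    ⟨e 0, (e 0).2, e 1, (e 1).2, e 2, (e 2).2, h₀.1, h₀.2.1, h₀.2.2.2.1⟩
  obtain ⟨a, ha, b, hb, c, hc', hab, hac, hbc⟩ := hea
  obtain ⟨hn21, -⟩ := key a ha b hb c hc' hab hac hbc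
  by_cases hone : ∃ h : ↥G, (Γ \ T h).card = 1
  · obtain ⟨h, hh⟩ := hone
    exact union_top hG hΓ (hΓ.map (inv_mem h.2)) (by omega) (Finset.card_map _) hh hn21
  exfalso
  set E : Finset ↥G := Finset.univ.filter fun h => (h : Perm α) a ∈ Γ ∧ (h : Perm α) b ∈ Γᶜ with hE
  set P := k * (n - k) * (n - 3) * K with hP
  have hEc : E.card = P * (n - 2) := by
    rw [hE, count2 h4 hab h₀ hn4 disjoint_compl_right, hc, hP, ← hn', ← hK, ← hk']
    ring
  have hsum : ∑ h ∈ E, (Γ.filter fun z => (h : Perm α) z ∈ Γ).card =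
      P * ((n - 2) + (k - 2) * (k - 1)) := by
    rw [sum_card_swap, ← Finset.sum_erase_add Γ _ ha,
      ← Finset.sum_erase_add (Γ.erase a) _ (Finset.mem_erase.mpr ⟨hab.symm, hb⟩)]
    have hza : (E.filter fun h : ↥G => (h : Perm α) a ∈ Γ) = E := by
      refine Finset.filter_true_of_mem fun h hh => ?_
      simp only [hE, Finset.mem_filter] at hh
      exact hh.2.1
    have hzb : (E.filter fun h : ↥G => (h : Perm α) b ∈ Γ).card = 0 := by
      rw [Finset.card_eq_zero, Finset.filter_eq_empty_iff]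
      intro h hh hh'
      simp only [hE, Finset.mem_filter, Finset.mem_univ, true_and, Finset.mem_compl] at hh
      exact hh.2 hh'
    have hrest : ∀ z ∈ (Γ.erase a).erase b,
        (E.filter fun h : ↥G => (h : Perm α) z ∈ Γ).card = P * (k - 1) := by
      intro z hz
      simp only [Finset.mem_erase] at hz
      have e1 : (E.filter fun h : ↥G => (h : Perm α) z ∈ Γ) = Finset.univ.filter fun h : ↥G =>
          (h : Perm α) a ∈ Γ ∧ (h : Perm α) b ∈ Γᶜ ∧ (h : Perm α) z ∈ Γ := by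
        ext h; simp only [hE, Finset.mem_filter]; tauto
      rw [e1, count3 h4 hab (Ne.symm hz.2.1) (Ne.symm hz.1) h₀ hn4, card_alternating3, hP, ← hn', ← hK, ← hk']
      ring
    rw [Finset.sum_congr rfl hrest, Finset.sum_const, smul_eq_mul, hza, hzb, hEc,
      Finset.card_erase_of_mem (Finset.mem_erase.mpr ⟨hab.symm, hb⟩), Finset.card_erase_of_mem ha,
      show Γ.card - 1 - 1 = k - 2 by omega]
    ring
  have heq : ∀ h ∈ E, k = 2 * (Γ.filter fun z => (h : Perm α) z ∈ Γ).card + 1 := by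
    intro h hh
    simp only [hE, Finset.mem_filter, Finset.mem_univ, true_and, Finset.mem_compl] at hh
    have hbT : b ∈ Γ \ T h := Finset.mem_sdiff.mpr ⟨hb, fun hh' => hh.2 ((hT h b).mp hh')⟩
    have h1 : 1 < (Γ \ T h).card := lt_of_le_of_ne (Finset.card_pos.mpr ⟨b, hbT⟩)
      fun e => hone ⟨h, e.symm⟩
    obtain ⟨c', hc'', hne⟩ := Finset.exists_mem_ne h1 b
    obtain ⟨hcΓ, hcT⟩ := Finset.mem_sdiff.mp hc''
    rw [hT] at hcT
    exact (key a ha b hb c' hcΓ hab (fun e => hcT (e ▸ hh.1)) hne.symm).2 h hh.1 hh.2 hcT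
  have hS := Finset.sum_congr rfl heq
  rw [Finset.sum_add_distrib, ← Finset.mul_sum, hsum, Finset.sum_const, Finset.sum_const, smul_eq_mul,
    smul_eq_mul, hEc, hn21] at hS
  have hPpos : 0 < P := Nat.mul_pos (Nat.mul_pos (Nat.mul_pos (by omega) (by omega)) (by omega)) hKpos
  obtain ⟨k₀, hk₀⟩ := Nat.exists_eq_add_of_le hk
  rw [hk₀, show 2 * (4 + k₀) + 1 - 2 = 2 * k₀ + 7 by omega, show 4 + k₀ - 2 = k₀ + 2 by omega,
    show 4 + k₀ - 1 = k₀ + 3 by omega] at hS
  nlinarith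

end Cfsg.Agent.Marggraf
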