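import Mathlib

/-!
# Jordan sets of permutation groups, and supports of commutators
-/

namespace Cfsg.Agent.Marggraf

open Equiv Equiv.Perm MulAction
open scoped Pointwise commutatorElement

variable {α : Type*} [DecidableEq α] [Fintype α]

/-- `Γ` is a Jordan set: the elements fixing everything outside are transitive on it. -/
def JSet (G : Subgroup (Perm α)) (Γ : Finset α) : Prop :=
  ∀ a ∈ Γ, ∀ b ∈ Γ, ∃ g ∈ G, (∀ z, z ∉ Γ → g z = z) ∧ g a = b

variable {G : Subgroup (Perm α)}

omit [Fintype α] in
theorem JSet.map {Γ : Finset α} (h : JSet G Γ) {g : Perm α} (hg : g ∈ G) :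
    JSet G (Γ.map g.toEmbedding) := by
  simp only [JSet, Finset.mem_map]
  rintro _ ⟨a, ha, rfl⟩ _ ⟨b, hb, rfl⟩
  obtain ⟨j, hj, hfix, e⟩ := h a ha b hb
  refine ⟨g * j * g⁻¹, mul_mem (mul_mem hg hj) (inv_mem hg), fun z hz => ?_, by simp [e]⟩
  obtain ⟨z, rfl⟩ := g.surjective z
  simp [hfix z fun h => hz ⟨z, h, rfl⟩]

theorem JSet.union {Γ Γ' : Finset α} (h : JSet G Γ) (h' : JSet G Γ') (hne : (Γ ∩ Γ').Nonempty) :
    JSet G (Γ ∪ Γ') := by
  obtain ⟨c, hc⟩ := hne
  rw [Finset.mem_inter] at hc
  have toC : ∀ a ∈ Γ ∪ Γ', ∃ g ∈ G, (∀ z, z ∉ Γ ∪ Γ' → g z = z) ∧ g a = c := by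
    intro a ha
    rcases Finset.mem_union.mp ha with ha | ha
    · obtain ⟨g, hg, hfix, e⟩ := h a ha c hc.1
      exact ⟨g, hg, fun z hz => hfix z fun hh => hz (Finset.mem_union_left _ hh), e⟩
    · obtain ⟨g, hg, hfix, e⟩ := h' a ha c hc.2
      exact ⟨g, hg, fun z hz => hfix z fun hh => hz (Finset.mem_union_right _ hh), e⟩
  intro a ha b hb
  obtain ⟨g, hg, hfix, e⟩ := toC a ha
  obtain ⟨g', hg', hfix', e'⟩ := toC b hb
  refine ⟨g'⁻¹ * g, mul_mem (inv_mem hg') hg, fun z hz => ?_, ?_⟩
  · rw [Perm.mul_apply, hfix z hz, Perm.inv_eq_iff_eq, hfix' z hz]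
  · rw [Perm.mul_apply, e, Perm.inv_eq_iff_eq, e']

theorem fixingSubgroup_pretransitive {Γ : Finset α} (h : JSet G Γ) :
    IsPretransitive ↥(fixingSubgroup G ((Γ : Set α)ᶜ))
      ↥(SubMulAction.ofFixingSubgroup G ((Γ : Set α)ᶜ)) := by
  refine ⟨fun x y => ?_⟩
  have hx : (x : α) ∈ Γ := by
    have := (SubMulAction.mem_ofFixingSubgroup_iff G).mp x.2
    simpa using this
  have hy : (y : α) ∈ Γ := by
    have := (SubMulAction.mem_ofFixingSubgroup_iff G).mp y.2
    simpa using this
  obtain ⟨g, hg, hfix, e⟩ := h _ hx _ hy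
  exact ⟨⟨⟨g, hg⟩, (mem_fixingSubgroup_iff _).mpr fun z hz => hfix z (by simpa using hz)⟩,
    Subtype.ext e⟩

/-- The support of the commutator of two permutations. -/
theorem support_commutator_subset (x y : Perm α) :
    ⁅x, y⁆.support ⊆ (x.support ∩ y.support) ∪
      ((x.support ∩ y.support).filter fun z => x z ∉ y.support).image x ∪
      ((x.support ∩ y.support).filter fun z => y z ∉ x.support).image y := by
  intro z hz
  rw [Perm.mem_support] at hz
  by_contra hne
  simp only [Finset.mem_union, Finset.mem_inter, Finset.mem_image, Finset.mem_filter, not_or,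
    not_exists, not_and] at hne
  obtain ⟨⟨h1, h2⟩, h3⟩ := hne
  apply hz
  simp only [commutatorElement_def, Perm.mul_apply]
  by_cases hzS : z ∈ x.support
  · have hzT : z ∉ y.support := h1 hzS
    have e1 : y⁻¹ z = z := by rw [Perm.inv_eq_iff_eq, Perm.notMem_support.mp hzT]
    rw [e1]
    have hw : x⁻¹ z ∈ x.support := by
      rw [← Perm.apply_mem_support]; simpa using hzS
    have hwT : x⁻¹ z ∉ y.support := fun h => h2 (x⁻¹ z) ⟨⟨hw, h⟩, by simpa using hzT⟩ (by simp)
    rw [Perm.notMem_support.mp hwT]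
    simp
  · by_cases hzT : z ∈ y.support
    · have hw : y⁻¹ z ∈ y.support := by
        rw [← Perm.apply_mem_support]; simpa using hzT
      have hwS : y⁻¹ z ∉ x.support := fun h => h3 (y⁻¹ z) ⟨⟨h, hw⟩, by simpa using hzS⟩ (by simp)
      have e1 : x⁻¹ (y⁻¹ z) = y⁻¹ z := by rw [Perm.inv_eq_iff_eq, Perm.notMem_support.mp hwS]
      rw [e1]
      simpa using Perm.notMem_support.mp hzS
    · have e1 : y⁻¹ z = z := by rw [Perm.inv_eq_iff_eq, Perm.notMem_support.mp hzT]
      have e2 : x⁻¹ z = z := by rw [Perm.inv_eq_iff_eq, Perm.notMem_support.mp hzS]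
      rw [e1, e2, Perm.notMem_support.mp hzT, Perm.notMem_support.mp hzS]

theorem commutator_ne_one {x y : Perm α} {a : α} (ha : a ∈ y.support) (hb : x a ∉ y.support) :
    ⁅x, y⁆ ≠ 1 := by
  rw [Ne, commutatorElement_eq_one_iff_commute]
  intro h
  apply Perm.mem_support.mp ha
  apply x.injective
  rw [← Perm.mul_apply, h.eq, Perm.mul_apply, Perm.notMem_support.mp hb]

/-- A primitive group with a nontrivial element moving at most three points is large. -/
theorem of_small_support (hG : IsPreprimitive G α) {x : Perm α} (hx : x ∈ G) (h1 : x ≠ 1)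
    (h3 : x.support.card ≤ 3) : alternatingGroup α ≤ G := by
  have h2 := two_le_card_support_of_ne_one h1
  rcases Nat.lt_or_ge x.support.card 3 with h | h
  · rw [subgroup_eq_top_of_isPreprimitive_of_isSwap_mem hG x
      (card_support_eq_two.mp (by omega)) hx]
    exact le_top
  · exact alternatingGroup_le_of_isPreprimitive_of_isThreeCycle_mem hG
      (card_support_eq_three_iff.mp (by omega)) hx

/-- A short element in a highly transitive group. -/
theorem of_short {t : ℕ} (hG : IsPreprimitive G α) (ht : IsMultiplyPretransitive G α t) {x : Perm α}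
    (hx : x ∈ G) (hx1 : x ≠ 1) (hmt : x.support.card ≤ t)
    (hn : 2 * x.support.card ≤ Fintype.card α + 1) (htn : t ≤ Fintype.card α) :
    alternatingGroup α ≤ G := by
  classical
  set S := x.support with hS
  obtain ⟨a, ha⟩ : S.Nonempty := Finset.card_pos.mp (by
    have := two_le_card_support_of_ne_one hx1
    rw [hS]
    omega)
  haveI := isMultiplyPretransitive_of_le (G := G) (α := α) (m := S.card) hmt (by simpa using htn)
  have hc : (S.erase a).card ≤ (Sᶜ).card := by
    rw [Finset.card_erase_of_mem ha, Finset.card_compl]; omega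
  obtain ⟨R, hR, hRc⟩ := Finset.exists_subset_card_eq hc
  let e1 : {z // z ∈ S.erase a} ≃ {z // z ∈ R} :=
    Finset.equivOfCardEq hRc.symm
  have hnotR : a ∉ R := fun h => Finset.mem_compl.mp (hR h) ha
  let f : {z // z ∈ S} ↪ α :=
    { toFun := fun z => if h : (z : α) = a then a else (e1 ⟨z, Finset.mem_erase.mpr ⟨h, z.2⟩⟩ : α)
      inj' := fun z w h => by
        simp only at h
        split_ifs at h with h1 h2 h2
        · exact Subtype.ext (h1.trans h2.symm)
        · exact absurd (h ▸ (e1 _).2) hnotR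
        · exact absurd (h.symm ▸ (e1 _).2) hnotR
        · exact Subtype.ext (by simpa using e1.injective (Subtype.ext h)) }
  let i : Fin S.card ↪ α := S.equivFin.symm.toEmbedding.trans (Function.Embedding.subtype _)
  obtain ⟨g, hg⟩ := exists_smul_eq G i (S.equivFin.symm.toEmbedding.trans f)
  have hgz : ∀ z (hz : z ∈ S), (g : Perm α) z = f ⟨z, hz⟩ := fun z hz => by
    have := congrArg (fun u : Fin S.card ↪ α => u (S.equivFin ⟨z, hz⟩)) hg
    simpa [i, Function.Embedding.smul_apply, Subgroup.smul_def] using this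
  set y := (g : Perm α) * x * (g : Perm α)⁻¹ with hy
  have hyS : y.support = S.map (g : Perm α).toEmbedding := by rw [hy, Perm.support_conj]
  have hga : (g : Perm α) a = a := by
    rw [hgz a ha]
    exact dif_pos rfl
  have hinter : S ∩ y.support = {a} := by
    refine Finset.ext fun z => ?_
    rw [hyS, Finset.mem_inter, Finset.mem_map, Finset.mem_singleton]
    constructor
    · rintro ⟨hzS, w, hw, rfl⟩
      by_contra hwa
      have hne : w ≠ a := fun e => hwa (by rw [e]; exact hga)
      apply Finset.mem_compl.mp (hR (e1 ⟨w, Finset.mem_erase.mpr ⟨hne, hw⟩⟩).2)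
      have := (hgz w hw).trans (dif_neg hne)
      rw [← this]
      exact hzS
    · rintro rfl
      exact ⟨ha, z, ha, hga⟩
  have haT : a ∈ y.support := by
    have := hinter ▸ Finset.mem_singleton_self a
    exact (Finset.mem_inter.mp this).2
  have hxa : x a ∉ y.support := fun h => by
    have : x a ∈ S ∩ y.support := Finset.mem_inter.mpr ⟨Perm.apply_mem_support.mpr ha, h⟩
    rw [hinter, Finset.mem_singleton] at this
    exact Perm.mem_support.mp ha this
  refine of_small_support hG (x := ⁅x, y⁆) ?_ (commutator_ne_one haT hxa) ?_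
  · have hyG : y ∈ G := mul_mem (mul_mem g.2 hx) (inv_mem g.2)
    rw [commutatorElement_def]
    exact mul_mem (mul_mem (mul_mem hx hyG) (inv_mem hx)) (inv_mem hyG)
  · refine (Finset.card_le_card (support_commutator_subset x y)).trans ?_
    rw [hinter]
    refine (Finset.card_union_le _ _).trans ?_
    refine (Nat.add_le_add (Finset.card_union_le _ _) le_rfl).trans ?_
    have h1 := (Finset.card_image_le (f := x)).trans (Finset.card_filter_le ({a} : Finset α) fun z => x z ∉ y.support)
    have h2 := (Finset.card_image_le (f := y)).trans (Finset.card_filter_le ({a} : Finset α) fun z => y z ∉ x.support)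
    simp only [Finset.card_singleton] at h1 h2 ⊢
    omega

end Cfsg.Agent.Marggraf
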