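import Cfsg.Agent.Marggraf.Basic
import Cfsg.Agent.S0712

/-!
# The geometry of an imprimitive point stabiliser

If the pointwise stabiliser of `T = insert e T₀` is imprimitive on the remaining points, the sets
`line T₀ x y` form a linear space on the points outside `T₀`, and the fixed set of a Jordan set is a
subspace of it; counting the lines through a point outside a subspace bounds the subspace.
-/

namespace Cfsg.Agent.Marggraf

open Equiv Equiv.Perm MulAction
open scoped Pointwise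

variable {α : Type*} [DecidableEq α] [Fintype α] {G : Subgroup (Perm α)}

theorem extend_map {t : ℕ} (ht : IsMultiplyPretransitive G α t) (htn : t ≤ Fintype.card α)
    (D : Finset α) (hD : D.card ≤ t) (f : α → α) (hf : Set.InjOn f D) :
    ∃ g ∈ G, ∀ z ∈ D, g z = f z := by
  haveI := isMultiplyPretransitive_of_le (G := G) (α := α) (m := D.card) hD (by simpa using htn)
  let i : Fin D.card ↪ α := D.equivFin.symm.toEmbedding.trans (Function.Embedding.subtype _)
  let j : Fin D.card ↪ α := ⟨fun u => f (D.equivFin.symm u), fun u v e =>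
    D.equivFin.symm.injective (Subtype.ext (hf (D.equivFin.symm u).2 (D.equivFin.symm v).2 e))⟩
  obtain ⟨g, hg⟩ := exists_smul_eq G i j
  refine ⟨g, g.2, fun z hz => ?_⟩
  have h := congrArg (fun u : Fin D.card ↪ α => u (D.equivFin ⟨z, hz⟩)) hg
  simp only [i, Function.Embedding.smul_apply, Subgroup.smul_def, Perm.smul_def, Function.Embedding.trans_apply,
    Equiv.coe_toEmbedding, Equiv.symm_apply_apply, Function.Embedding.coe_subtype] at h
  exact h.trans (congrArg f (congrArg Subtype.val (D.equivFin.symm_apply_apply _)))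

theorem extend_into {t : ℕ} (ht : IsMultiplyPretransitive G α t) (htn : t ≤ Fintype.card α)
    (D A : Finset α) (hD : D.card ≤ t) (hA : D.card ≤ A.card) :
    ∃ g ∈ G, ∀ z ∈ D, g z ∈ A := by
  classical
  obtain ⟨R, hR, hRc⟩ := Finset.exists_subset_card_eq hA
  let e : {z // z ∈ D} ≃ {z // z ∈ R} := Finset.equivOfCardEq hRc.symm
  obtain ⟨g, hg, hgz⟩ := extend_map ht htn D hD
    (fun z => if h : z ∈ D then (e ⟨z, h⟩ : α) else z) (fun u hu v hv h => by
      simp only [Finset.mem_coe] at hu hv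
      simp only [dif_pos hu, dif_pos hv] at h
      simpa using e.injective (Subtype.ext h))
  exact ⟨g, hg, fun z hz => by rw [hgz z hz, dif_pos hz]; exact hR (e _).2⟩

open Classical in
/-- The intersection of the translates of `Γᶜ` containing `T₀`, `x` and `y`. -/
noncomputable def line (G : Subgroup (Perm α)) (Γ T₀ : Finset α) (x y : α) : Finset α :=
  Finset.univ.filter fun z =>
    ∀ g ∈ G, (∀ w ∈ T₀, g w ∉ Γ) → g x ∉ Γ → g y ∉ Γ → g z ∉ Γ

variable {Γ T₀ : Finset α}

theorem mem_line {x y z : α} : z ∈ line G Γ T₀ x y ↔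
    ∀ g ∈ G, (∀ w ∈ T₀, g w ∉ Γ) → g x ∉ Γ → g y ∉ Γ → g z ∉ Γ := by
  simp [line]

theorem line_comm (x y : α) : line G Γ T₀ x y = line G Γ T₀ y x := by
  ext z
  simp only [mem_line]
  exact ⟨fun h g hg h0 h1 h2 => h g hg h0 h2 h1, fun h g hg h0 h1 h2 => h g hg h0 h2 h1⟩

theorem base_subset_line (x y : α) : insert x (insert y T₀) ⊆ line G Γ T₀ x y := by
  intro z hz
  simp only [Finset.mem_insert] at hz
  rw [mem_line]
  intro g _ h0 hx hy
  rcases hz with rfl | rfl | hz
  · exact hx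
  · exact hy
  · exact h0 z hz

theorem line_map {u : Perm α} (hu : u ∈ G) (hfix : ∀ w ∈ T₀, u w = w) {x y z : α}
    (hz : z ∈ line G Γ T₀ x y) : u z ∈ line G Γ T₀ (u x) (u y) := by
  rw [mem_line] at hz ⊢
  intro g hg h0 hx hy
  exact hz (g * u) (mul_mem hg hu) (fun w hw => by rw [Perm.mul_apply, hfix w hw]; exact h0 w hw) hx hy

variable (ht : IsMultiplyPretransitive G α (T₀.card + 2))
  (htn : T₀.card + 2 ≤ Fintype.card α)
include ht htn

theorem line_card {x y x' y' : α} (hx : x ∉ T₀) (hy : y ∉ T₀) (hxy : x ≠ y) (hx' : x' ∉ T₀)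
    (hy' : y' ∉ T₀) (hxy' : x' ≠ y') :
    (line G Γ T₀ x y).card ≤ (line G Γ T₀ x' y').card := by
  obtain ⟨u, hu, huz⟩ := extend_map ht htn (insert x (insert y T₀))
    ((Finset.card_insert_le _ _).trans (Nat.succ_le_succ (Finset.card_insert_le _ _)))
    (fun z => if z = x then x' else if z = y then y' else z) (fun v hv w hw e => by
      simp only [Finset.mem_coe, Finset.mem_insert] at hv hw
      simp only at e
      grind)
  have ex : u x = x' := by rw [huz x (by simp), if_pos rfl]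
  have ey : u y = y' := by rw [huz y (by simp), if_neg (Ne.symm hxy), if_pos rfl]
  have hfix : ∀ w ∈ T₀, u w = w := fun w hw => by
    rw [huz w (by simp [hw]), if_neg (show ¬ w = x from fun e => hx (by rw [← e]; exact hw)),
      if_neg (show ¬ w = y from fun e => hy (by rw [← e]; exact hw))]
  rw [← Finset.card_map u.toEmbedding]
  refine Finset.card_le_card fun z hz => ?_
  obtain ⟨w, hw, rfl⟩ := Finset.mem_map.mp hz
  have := line_map hu hfix hw
  rwa [ex, ey] at this

theorem line_eq {x y z : α} (hx : x ∉ T₀) (hy : y ∉ T₀) (hxy : x ≠ y)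
    (hz : z ∈ line G Γ T₀ x y) (hz0 : z ∉ T₀) (hzx : z ≠ x) :
    line G Γ T₀ x z = line G Γ T₀ x y := by
  refine Finset.eq_of_subset_of_card_le (fun w hw => ?_) (line_card ht htn hx hy hxy hx hz0 hzx.symm)
  rw [mem_line] at hw hz ⊢
  exact fun g hg h0 h1 h2 => hw g hg h0 h1 (hz g hg h0 h1 h2)

/-- Counting the lines through a point outside a subspace. -/
theorem count_lines {s : Finset α}
    (hs0 : T₀ ⊆ s) (hs : ∀ x ∈ s, ∀ y ∈ s, x ∉ T₀ → y ∉ T₀ → x ≠ y → line G Γ T₀ x y ⊆ s)
    {p : α} (hp : p ∉ s) {d : ℕ}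
    (hd : ∀ x y, x ∉ T₀ → y ∉ T₀ → x ≠ y → T₀.card + 2 + d ≤ (line G Γ T₀ x y).card) :
    (s.card - T₀.card) * d ≤ Fintype.card α - s.card - 1 := by
  classical
  have hp0 : p ∉ T₀ := fun h => hp (hs0 h)
  let D : α → Finset α := fun r => line G Γ T₀ r p \ insert r (insert p T₀)
  have hmem : ∀ r ∈ s \ T₀, r ≠ p ∧ r ∈ s ∧ r ∉ T₀ := fun r hr => by
    rw [Finset.mem_sdiff] at hr
    exact ⟨fun e => hp (e ▸ hr.1), hr⟩
  have hDc : ∀ r ∈ s \ T₀, d ≤ (D r).card := fun r hr => by
    obtain ⟨hrp, -, hr0⟩ := hmem r hr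
    have h1 := hd r p hr0 hp0 hrp
    have h2 : (insert r (insert p T₀)).card = T₀.card + 2 := by
      rw [Finset.card_insert_of_notMem (by simp [hrp, hr0]), Finset.card_insert_of_notMem hp0]
    have h3 := Finset.card_sdiff_add_card_eq_card (base_subset_line (G := G) (Γ := Γ) (T₀ := T₀) r p)
    show d ≤ (line G Γ T₀ r p \ _).card
    omega
  have hDs : ∀ r ∈ s \ T₀, D r ⊆ (insert p s)ᶜ := fun r hr z hz => by
    obtain ⟨hrp, hrs, hr0⟩ := hmem r hr
    simp only [D, Finset.mem_sdiff, Finset.mem_insert, not_or] at hz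
    rw [Finset.mem_compl, Finset.mem_insert, not_or]
    refine ⟨hz.2.2.1, fun hzs => hp ?_⟩
    have e := line_eq ht htn hr0 hp0 hrp hz.1 hz.2.2.2 hz.2.1
    exact hs r hrs z hzs hr0 hz.2.2.2 (Ne.symm hz.2.1) (e ▸ base_subset_line r p (by simp))
  have hdis : ∀ r ∈ s \ T₀, ∀ r' ∈ s \ T₀, r ≠ r' → Disjoint (D r) (D r') := fun r hr r' hr' hne => by
    obtain ⟨hrp, hrs, hr0⟩ := hmem r hr
    obtain ⟨hrp', hrs', hr0'⟩ := hmem r' hr'
    rw [Finset.disjoint_left]
    intro z hz hz'
    simp only [D, Finset.mem_sdiff, Finset.mem_insert, not_or] at hz hz'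
    have e1 : line G Γ T₀ p z = line G Γ T₀ p r :=
      line_eq ht htn hp0 hr0 hrp.symm (line_comm r p ▸ hz.1) hz.2.2.2 hz.2.2.1
    have e2 : line G Γ T₀ p z = line G Γ T₀ p r' :=
      line_eq ht htn hp0 hr0' hrp'.symm (line_comm r' p ▸ hz'.1) hz'.2.2.2 hz'.2.2.1
    have h1 : r' ∈ line G Γ T₀ r p := by
      rw [line_comm r p, ← e1, e2]
      exact base_subset_line p r' (by simp)
    have e := line_eq ht htn hr0 hp0 hrp h1 hr0' hne.symm
    exact hp (hs r hrs r' hrs' hr0 hr0' hne (e ▸ base_subset_line r p (by simp)))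
  have h1 := Finset.card_le_card (Finset.biUnion_subset.mpr hDs)
  rw [Finset.card_biUnion hdis, Finset.card_compl, Finset.card_insert_of_notMem hp] at h1
  have h2 := Finset.card_nsmul_le_sum _ _ _ hDc
  rw [smul_eq_mul, Finset.card_sdiff_of_subset hs0] at h2
  omega

end Cfsg.Agent.Marggraf
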