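import Mathlib

/-!
# Counting in 4-transitive groups

The number of group elements sending four given points into given sets.
-/

namespace Cfsg.Agent.Marggraf

open Equiv Equiv.Perm MulAction

variable {α : Type*} [DecidableEq α] [Fintype α] {G : Subgroup (Perm α)}

/-- An injective quadruple, as an embedding. -/
def quad (p : α × α × α × α)
    (h : p.1 ≠ p.2.1 ∧ p.1 ≠ p.2.2.1 ∧ p.1 ≠ p.2.2.2 ∧ p.2.1 ≠ p.2.2.1 ∧ p.2.1 ≠ p.2.2.2 ∧
      p.2.2.1 ≠ p.2.2.2) : Fin 4 ↪ α :=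
  ⟨![p.1, p.2.1, p.2.2.1, p.2.2.2], fun i j e => by
    obtain ⟨h1, h2, h3, h4, h5, h6⟩ := h
    fin_cases i <;> fin_cases j <;> simp_all [eq_comm]⟩

/-- Pairwise distinct quadruple. -/
def Distinct4 (a b c d : α) : Prop := a ≠ b ∧ a ≠ c ∧ a ≠ d ∧ b ≠ c ∧ b ≠ d ∧ c ≠ d

section
variable [DecidablePred (· ∈ G)]

/-- Elements sending the quadruple to the quadruple. -/
def fibre (G : Subgroup (Perm α)) [DecidablePred (· ∈ G)] (a b c d u v w r : α) : Finset ↥G :=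
  Finset.univ.filter fun h => (h : Perm α) a = u ∧ (h : Perm α) b = v ∧ (h : Perm α) c = w ∧
    (h : Perm α) d = r

theorem fibre_const (h4 : IsMultiplyPretransitive G α 4) {a b c d u v w r a' b' c' d' u' v' w' r' : α}
    (h : Distinct4 a b c d) (hu : Distinct4 u v w r) (h' : Distinct4 a' b' c' d')
    (hu' : Distinct4 u' v' w' r') :
    (fibre G a b c d u v w r).card = (fibre G a' b' c' d' u' v' w' r').card := by
  obtain ⟨g₁, e₁⟩ := exists_smul_eq G (quad (u, v, w, r) hu) (quad (u', v', w', r') hu')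
  obtain ⟨g₂, e₂⟩ := exists_smul_eq G (quad (a', b', c', d') h') (quad (a, b, c, d) h)
  have k₁ := fun i => congrArg (fun f : Fin 4 ↪ α => f i) e₁
  have k₂ := fun i => congrArg (fun f : Fin 4 ↪ α => f i) e₂
  have p₁ : (g₁ : Perm α) u = u' ∧ (g₁ : Perm α) v = v' ∧ (g₁ : Perm α) w = w' ∧ (g₁ : Perm α) r = r' :=
    ⟨k₁ 0, k₁ 1, k₁ 2,
      k₁ 3⟩
  have p₂ : (g₂ : Perm α) a' = a ∧ (g₂ : Perm α) b' = b ∧ (g₂ : Perm α) c' = c ∧ (g₂ : Perm α) d' = d :=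
    ⟨k₂ 0, k₂ 1, k₂ 2,
      k₂ 3⟩
  refine Finset.card_equiv ((Equiv.mulLeft g₁).trans (Equiv.mulRight g₂)) fun x => ?_
  simp only [fibre, Finset.mem_filter, Finset.mem_univ, true_and, Equiv.trans_apply, Equiv.coe_mulLeft,
    Equiv.coe_mulRight, Subgroup.coe_mul, Perm.mul_apply, p₂]
  rw [← p₁.1, ← p₁.2.1, ← p₁.2.2.1, ← p₁.2.2.2]
  simp only [(g₁ : Perm α).injective.eq_iff]

/-- Four points into four sets. -/
theorem count4 (h4 : IsMultiplyPretransitive G α 4) {a b c d a₀ b₀ c₀ d₀ : α} (h : Distinct4 a b c d)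
    (h₀ : Distinct4 a₀ b₀ c₀ d₀) (A B C D : Finset α) :
    (Finset.univ.filter fun g : ↥G => (g : Perm α) a ∈ A ∧ (g : Perm α) b ∈ B ∧ (g : Perm α) c ∈ C ∧
      (g : Perm α) d ∈ D).card =
    ((A ×ˢ B ×ˢ C ×ˢ D).filter fun p => p.1 ≠ p.2.1 ∧ p.1 ≠ p.2.2.1 ∧ p.1 ≠ p.2.2.2 ∧
      p.2.1 ≠ p.2.2.1 ∧ p.2.1 ≠ p.2.2.2 ∧ p.2.2.1 ≠ p.2.2.2).card *
      (fibre G a₀ b₀ c₀ d₀ a₀ b₀ c₀ d₀).card := by
  rw [Finset.card_eq_sum_card_fiberwise (t := (A ×ˢ B ×ˢ C ×ˢ D).filter fun p => p.1 ≠ p.2.1 ∧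
    p.1 ≠ p.2.2.1 ∧ p.1 ≠ p.2.2.2 ∧ p.2.1 ≠ p.2.2.1 ∧ p.2.1 ≠ p.2.2.2 ∧ p.2.2.1 ≠ p.2.2.2)
    (f := fun g : ↥G => ((g : Perm α) a, (g : Perm α) b, (g : Perm α) c, (g : Perm α) d))]
  · rw [Finset.sum_const_nat]
    rintro ⟨u, v, w, r⟩ hp
    simp only [Finset.mem_filter, Finset.mem_product] at hp
    rw [← fibre_const h4 h hp.2 h₀ h₀]
    congr 1
    ext g
    simp only [fibre, Finset.mem_filter, Finset.mem_univ, true_and, Prod.mk.injEq]
    exact ⟨fun k => k.2, fun k => ⟨⟨k.1 ▸ hp.1.1, k.2.1 ▸ hp.1.2.1, k.2.2.1 ▸ hp.1.2.2.1,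
      k.2.2.2 ▸ hp.1.2.2.2⟩, k⟩⟩
  · intro g hg
    obtain ⟨q1, q2, q3, q4, q5, q6⟩ := h
    simp only [Finset.mem_coe, Finset.mem_filter, Finset.mem_univ, true_and] at hg
    simp only [Finset.mem_coe, Finset.mem_filter, Finset.mem_product]
    exact ⟨hg, (g : Perm α).injective.ne q1, (g : Perm α).injective.ne q2, (g : Perm α).injective.ne q3,
      (g : Perm α).injective.ne q4, (g : Perm α).injective.ne q5, (g : Perm α).injective.ne q6⟩

/-- Three points into three sets, the third not meeting the others. -/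
theorem count3 (h4 : IsMultiplyPretransitive G α 4) {a b c a₀ b₀ c₀ d₀ : α}
    (hab : a ≠ b) (hac : a ≠ c) (hbc : b ≠ c)
    (h₀ : Distinct4 a₀ b₀ c₀ d₀) (hn : 4 ≤ Fintype.card α) (A B C : Finset α) :
    (Finset.univ.filter fun g : ↥G => (g : Perm α) a ∈ A ∧ (g : Perm α) b ∈ B ∧
      (g : Perm α) c ∈ C).card =
    ((A ×ˢ B ×ˢ C).filter fun p => p.1 ≠ p.2.1 ∧ p.1 ≠ p.2.2 ∧ p.2.1 ≠ p.2.2).card *
      (Fintype.card α - 3) * (fibre G a₀ b₀ c₀ d₀ a₀ b₀ c₀ d₀).card := by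
  obtain ⟨d, hd⟩ : (({a, b, c} : Finset α)ᶜ).Nonempty := by
    rw [← Finset.card_pos, Finset.card_compl]
    have := Finset.card_le_three (a := a) (b := b) (c := c)
    omega
  simp only [Finset.mem_compl, Finset.mem_insert, Finset.mem_singleton, not_or] at hd
  obtain ⟨had, hbd, hcd⟩ := hd
  have e : (Finset.univ.filter fun g : ↥G => (g : Perm α) a ∈ A ∧ (g : Perm α) b ∈ B ∧
      (g : Perm α) c ∈ C) = Finset.univ.filter fun g : ↥G => (g : Perm α) a ∈ A ∧ (g : Perm α) b ∈ B ∧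
      (g : Perm α) c ∈ C ∧ (g : Perm α) d ∈ (Finset.univ : Finset α) := by
    ext g; simp
  rw [e, count4 h4 ⟨hab, hac, Ne.symm had, hbc, Ne.symm hbd, Ne.symm hcd⟩ h₀ A B C Finset.univ]
  congr 1
  rw [Finset.card_eq_sum_card_fiberwise (t := (A ×ˢ B ×ˢ C).filter fun p => p.1 ≠ p.2.1 ∧
    p.1 ≠ p.2.2 ∧ p.2.1 ≠ p.2.2) (f := fun p : α × α × α × α => (p.1, p.2.1, p.2.2.1))]
  · rw [Finset.sum_const_nat]
    rintro ⟨u, v, w⟩ hp
    simp only [Finset.mem_filter, Finset.mem_product] at hp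
    have h3 : ({u, v, w} : Finset α).card = 3 :=
      Finset.card_eq_three.mpr ⟨u, v, w, hp.2.1, hp.2.2.1, hp.2.2.2, rfl⟩
    rw [← h3, ← Finset.card_compl, ← Finset.card_map (s := ({u, v, w} : Finset α)ᶜ) ⟨fun r => (u, v, w, r), fun r r' e => by simpa using e⟩]
    refine congrArg Finset.card (Finset.ext ?_)
    rintro ⟨p1, p2, p3, p4⟩
    simp only [Finset.mem_filter, Finset.mem_product, Finset.mem_univ, and_true, Prod.mk.injEq,
      Finset.mem_map, Function.Embedding.coeFn_mk, Finset.mem_compl, Finset.mem_insert,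
      Finset.mem_singleton, not_or]
    constructor
    · rintro ⟨⟨-, q1, q2, q3, q4, q5, q6⟩, rfl, rfl, rfl⟩
      exact ⟨p4, ⟨Ne.symm q3, Ne.symm q5, Ne.symm q6⟩, rfl⟩
    · rintro ⟨r, ⟨r1, r2, r3⟩, e⟩
      obtain ⟨rfl, rfl, rfl, rfl⟩ : u = p1 ∧ v = p2 ∧ w = p3 ∧ r = p4 :=
        ⟨congrArg (fun q => q.1) e, congrArg (fun q => q.2.1) e, congrArg (fun q => q.2.2.1) e,
          congrArg (fun q => q.2.2.2) e⟩
      exact ⟨⟨hp.1, hp.2.1, hp.2.2.1, Ne.symm r1, hp.2.2.2, Ne.symm r2, Ne.symm r3⟩, rfl, rfl, rfl⟩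
  · rintro ⟨p1, p2, p3, p4⟩ hp
    simp only [Finset.mem_coe, Finset.mem_filter, Finset.mem_product] at hp ⊢
    exact ⟨⟨hp.1.1, hp.1.2.1, hp.1.2.2.1⟩, hp.2.1, hp.2.2.1, hp.2.2.2.2.1⟩

/-- Two points into two disjoint sets. -/
theorem count2 (h4 : IsMultiplyPretransitive G α 4) {a b a₀ b₀ c₀ d₀ : α}
    (hab : a ≠ b) (h₀ : Distinct4 a₀ b₀ c₀ d₀) (hn : 4 ≤ Fintype.card α) {A B : Finset α}
    (hAB : Disjoint A B) :
    (Finset.univ.filter fun g : ↥G => (g : Perm α) a ∈ A ∧ (g : Perm α) b ∈ B).card =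
    A.card * B.card * ((Fintype.card α - 2) * (Fintype.card α - 3)) *
      (fibre G a₀ b₀ c₀ d₀ a₀ b₀ c₀ d₀).card := by
  obtain ⟨c, hc⟩ : (({a, b} : Finset α)ᶜ).Nonempty := by
    rw [← Finset.card_pos, Finset.card_compl]
    have := Finset.card_le_two (a := a) (b := b)
    omega
  simp only [Finset.mem_compl, Finset.mem_insert, Finset.mem_singleton, not_or] at hc
  have e : (Finset.univ.filter fun g : ↥G => (g : Perm α) a ∈ A ∧ (g : Perm α) b ∈ B) =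
      Finset.univ.filter fun g : ↥G => (g : Perm α) a ∈ A ∧ (g : Perm α) b ∈ B ∧
      (g : Perm α) c ∈ (Finset.univ : Finset α) := by
    ext g; simp
  rw [e, count3 h4 hab (Ne.symm hc.1) (Ne.symm hc.2) h₀ hn A B Finset.univ, mul_assoc (A.card * B.card)]
  rw [mul_assoc, ← mul_assoc (A.card * B.card), ← mul_assoc (A.card * B.card)]
  rw [← mul_assoc]
  congr 2
  rw [Finset.card_eq_sum_card_fiberwise (t := A ×ˢ B) (f := fun p : α × α × α => (p.1, p.2.1))]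
  · rw [Finset.sum_const_nat (m := Fintype.card α - 2), Finset.card_product]
    rintro ⟨u, v⟩ hp
    simp only [Finset.mem_product] at hp
    have huv : u ≠ v := fun h => Finset.disjoint_left.mp hAB hp.1 (h ▸ hp.2)
    rw [← Finset.card_pair huv, ← Finset.card_compl,
      ← Finset.card_map (s := ({u, v} : Finset α)ᶜ) ⟨fun r => (u, v, r), fun r r' e => by simpa using e⟩]
    refine congrArg Finset.card (Finset.ext ?_)
    rintro ⟨p1, p2, p3⟩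
    simp only [Finset.mem_filter, Finset.mem_product, Finset.mem_univ, and_true, Prod.mk.injEq,
      Finset.mem_map, Function.Embedding.coeFn_mk, Finset.mem_compl, Finset.mem_insert,
      Finset.mem_singleton, not_or]
    constructor
    · rintro ⟨⟨-, q1, q2, q3⟩, rfl, rfl⟩
      exact ⟨p3, ⟨Ne.symm q2, Ne.symm q3⟩, rfl⟩
    · rintro ⟨r, ⟨r1, r2⟩, e⟩
      obtain ⟨rfl, rfl, rfl⟩ : u = p1 ∧ v = p2 ∧ r = p3 :=
        ⟨congrArg (fun q => q.1) e, congrArg (fun q => q.2.1) e, congrArg (fun q => q.2.2) e⟩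
      exact ⟨⟨hp, huv, Ne.symm r1, Ne.symm r2⟩, rfl, rfl⟩
  · rintro ⟨p1, p2, p3⟩ hp
    simp only [Finset.mem_coe, Finset.mem_filter, Finset.mem_product] at hp ⊢
    exact ⟨hp.1.1, hp.1.2.1⟩

end

/-- The pattern in, out, in, out. -/
theorem card_alternating4 (S : Finset α) :
    ((S ×ˢ Sᶜ ×ˢ S ×ˢ Sᶜ).filter fun p => p.1 ≠ p.2.1 ∧ p.1 ≠ p.2.2.1 ∧ p.1 ≠ p.2.2.2 ∧
      p.2.1 ≠ p.2.2.1 ∧ p.2.1 ≠ p.2.2.2 ∧ p.2.2.1 ≠ p.2.2.2).card =
    (S.card * (S.card - 1)) * ((Fintype.card α - S.card) * (Fintype.card α - S.card - 1)) := by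
  have h : ∀ T : Finset α, T.card * (T.card - 1) = T.offDiag.card := fun T => by
    rw [Finset.offDiag_card, Nat.mul_sub, mul_one]
  rw [h S, ← Finset.card_compl, h Sᶜ, ← Finset.card_product]
  refine Finset.card_nbij' (fun p => ((p.1, p.2.2.1), (p.2.1, p.2.2.2)))
    (fun q => (q.1.1, q.2.1, q.1.2, q.2.2)) ?_ ?_ (fun p _ => rfl) (fun q _ => rfl)
  · rintro ⟨u, v, w, r⟩ hp
    simp only [Finset.mem_coe, Finset.mem_filter, Finset.mem_product, Finset.mem_offDiag] at hp ⊢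
    exact ⟨⟨hp.1.1, hp.1.2.2.1, hp.2.2.1⟩, hp.1.2.1, hp.1.2.2.2, hp.2.2.2.2.2.1⟩
  · rintro ⟨⟨u, w⟩, ⟨v, r⟩⟩ hp
    simp only [Finset.mem_coe, Finset.mem_filter, Finset.mem_product, Finset.mem_offDiag,
      Finset.mem_compl] at hp ⊢
    obtain ⟨⟨hu, hw, huw⟩, hv, hr, hvr⟩ := hp
    exact ⟨⟨hu, hv, hw, hr⟩, fun e => hv (e ▸ hu), huw, fun e => hr (e ▸ hu), fun e => hv (e ▸ hw),
      hvr, fun e => hr (e ▸ hw)⟩

/-- The pattern in, out, in. -/
theorem card_alternating3 (S : Finset α) :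
    ((S ×ˢ Sᶜ ×ˢ S).filter fun p => p.1 ≠ p.2.1 ∧ p.1 ≠ p.2.2 ∧ p.2.1 ≠ p.2.2).card =
    (S.card * (S.card - 1)) * (Fintype.card α - S.card) := by
  have h : S.card * (S.card - 1) = S.offDiag.card := by
    rw [Finset.offDiag_card, Nat.mul_sub, mul_one]
  rw [h, ← Finset.card_compl, ← Finset.card_product]
  refine Finset.card_nbij' (fun p => ((p.1, p.2.2), p.2.1)) (fun q => (q.1.1, q.2, q.1.2)) ?_ ?_
    (fun p _ => rfl) (fun q _ => rfl)
  · rintro ⟨u, v, w⟩ hp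
    simp only [Finset.mem_coe, Finset.mem_filter, Finset.mem_product, Finset.mem_offDiag] at hp ⊢
    exact ⟨⟨hp.1.1, hp.1.2.2, hp.2.2.1⟩, hp.1.2.1⟩
  · rintro ⟨⟨u, w⟩, v⟩ hp
    simp only [Finset.mem_coe, Finset.mem_filter, Finset.mem_product, Finset.mem_offDiag,
      Finset.mem_compl] at hp ⊢
    obtain ⟨⟨hu, hw, huw⟩, hv⟩ := hp
    exact ⟨⟨hu, hv, hw⟩, fun e => hv (e ▸ hu), huw, fun e => hv (e ▸ hw)⟩

/-- Disjoint sets: every quadruple is injective. -/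
theorem card_disjoint4 (A B C D : Finset α) (h : Disjoint A B) (h2 : Disjoint A C) (h3 : Disjoint A D)
    (h4 : Disjoint B C) (h5 : Disjoint B D) (h6 : Disjoint C D) :
    ((A ×ˢ B ×ˢ C ×ˢ D).filter fun p => p.1 ≠ p.2.1 ∧ p.1 ≠ p.2.2.1 ∧ p.1 ≠ p.2.2.2 ∧
      p.2.1 ≠ p.2.2.1 ∧ p.2.1 ≠ p.2.2.2 ∧ p.2.2.1 ≠ p.2.2.2).card =
    A.card * (B.card * (C.card * D.card)) := by
  rw [Finset.filter_true_of_mem, Finset.card_product, Finset.card_product, Finset.card_product]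
  rintro ⟨u, v, w, r⟩ hp
  simp only [Finset.mem_product] at hp
  rw [Finset.disjoint_left] at h h2 h3 h4 h5 h6
  simp only at hp ⊢
  exact ⟨fun e => h hp.1 (by rw [e]; exact hp.2.1), fun e => h2 hp.1 (by rw [e]; exact hp.2.2.1),
    fun e => h3 hp.1 (by rw [e]; exact hp.2.2.2), fun e => h4 hp.2.1 (by rw [e]; exact hp.2.2.1),
    fun e => h5 hp.2.1 (by rw [e]; exact hp.2.2.2), fun e => h6 hp.2.2.1 (by rw [e]; exact hp.2.2.2)⟩

/-- Disjoint sets: every triple is injective. -/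
theorem card_disjoint3 (A B C : Finset α) (h : Disjoint A B) (h2 : Disjoint A C) (h4 : Disjoint B C) :
    ((A ×ˢ B ×ˢ C).filter fun p => p.1 ≠ p.2.1 ∧ p.1 ≠ p.2.2 ∧ p.2.1 ≠ p.2.2).card =
    A.card * (B.card * C.card) := by
  rw [Finset.filter_true_of_mem, Finset.card_product, Finset.card_product]
  rintro ⟨u, v, w⟩ hp
  simp only [Finset.mem_product] at hp
  rw [Finset.disjoint_left] at h h2 h4
  simp only at hp ⊢
  exact ⟨fun e => h hp.1 (by rw [e]; exact hp.2.1), fun e => h2 hp.1 (by rw [e]; exact hp.2.2),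
    fun e => h4 hp.2.1 (by rw [e]; exact hp.2.2)⟩

end Cfsg.Agent.Marggraf
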