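import Cfsg.Agent.Marggraf.Closure

/-!
# Raising the transitivity degree
-/

namespace Cfsg.Agent.Marggraf

open Equiv Equiv.Perm MulAction
open scoped Pointwise

variable {α : Type*} [DecidableEq α] [Fintype α] {G : Subgroup (Perm α)} {Γ : Finset α}

/-- With a primitive stabiliser of `T`, the group is `(|T| + 2)`-transitive. -/
theorem two_more (hΓ : JSet G Γ) (hk2 : 2 ≤ Γ.card) {T : Finset α} (hTΓ : ∀ z ∈ T, z ∉ Γ)
    (hlt : T.card + Γ.card < Fintype.card α)
    (ht : IsMultiplyPretransitive G α T.card)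
    (hprim : IsPreprimitive ↥(fixingSubgroup G (T : Set α)) ↥(SubMulAction.ofFixingSubgroup G (T : Set α))) :
    IsMultiplyPretransitive G α (T.card + 2) := by
  classical
  set H := fixingSubgroup G (T : Set α)
  set Ω := SubMulAction.ofFixingSubgroup G (T : Set α)
  have hmem : ∀ z, z ∈ Ω ↔ z ∉ T := fun z => by
    rw [SubMulAction.mem_ofFixingSubgroup_iff, Finset.mem_coe]
  set s : Set Ω := {z | (z : α) ∉ Γ} with hs
  have himg : Subtype.val '' s = (((Γ ∪ T)ᶜ : Finset α) : Set α) := by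
    ext z
    simp only [hs, Set.mem_image, Set.mem_setOf_eq, Finset.mem_coe, Finset.mem_compl, Finset.mem_union,
      not_or]
    exact ⟨fun ⟨w, h1, e⟩ => e ▸ ⟨h1, (hmem _).mp w.2⟩, fun ⟨h1, h2⟩ => ⟨⟨z, (hmem z).mpr h2⟩, h1, rfl⟩⟩
  have hdisj : Disjoint Γ T := Finset.disjoint_left.mpr fun z hz hzT => hTΓ z hzT hz
  have hsc : s.ncard = (Fintype.card α - T.card - Γ.card - 1) + 1 := by
    rw [← Set.ncard_image_of_injective s Subtype.val_injective, himg, Set.ncard_coe_finset,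
      Finset.card_compl, Finset.card_union_of_disjoint hdisj]
    omega
  have hΩc : Nat.card Ω = Fintype.card α - T.card := by
    rw [← Finset.card_compl, ← Nat.card_eq_finsetCard]
    exact Nat.card_congr (Equiv.subtypeEquivRight fun z => by rw [Finset.mem_compl]; exact hmem z)
  have htr : IsPretransitive ↥(fixingSubgroup ↥H s) ↥(SubMulAction.ofFixingSubgroup ↥H s) := by
    refine ⟨fun x y => ?_⟩
    have hin : ∀ u : ↥(SubMulAction.ofFixingSubgroup ↥H s), ((u : Ω) : α) ∈ Γ := fun u => by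
      by_contra h
      exact (SubMulAction.mem_ofFixingSubgroup_iff ↥H).mp u.2 h
    obtain ⟨g, hg, hfix, e⟩ := hΓ _ (hin x) _ (hin y)
    let g' : H := ⟨⟨g, hg⟩, (mem_fixingSubgroup_iff _).mpr fun z hz => hfix z (hTΓ z hz)⟩
    exact ⟨⟨g', (mem_fixingSubgroup_iff _).mpr fun z hz => Subtype.ext (hfix _ hz)⟩,
      Subtype.ext (Subtype.ext e)⟩
  have h2 := hprim.is_two_pretransitive hsc (by rw [hΩc]; omega) htr
  exact S0712.add_two (T : Set α) (Set.ncard_coe_finset T) ht h2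

/-- With an imprimitive stabiliser, lines have at least three points. -/
theorem sticky (hG : IsPreprimitive G α) (hΓ : JSet G Γ) (hk2 : 2 ≤ Γ.card)
    (hmax : ∀ U, JSet G U → Γ.card < U.card → Fintype.card α ≤ 2 * U.card)
    (hn : 2 * Γ.card < Fintype.card α) {T₀ : Finset α} {e : α} (he : e ∉ T₀)
    (ht : IsMultiplyPretransitive G α (T₀.card + 2)) (htn : T₀.card + 2 ≤ Fintype.card α)
    (hprim : ¬ IsPreprimitive ↥(fixingSubgroup G ((insert e T₀ : Finset α) : Set α))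
      ↥(SubMulAction.ofFixingSubgroup G ((insert e T₀ : Finset α) : Set α))) :
    ∀ x y, x ∉ T₀ → y ∉ T₀ → x ≠ y → T₀.card + 3 ≤ (line G Γ T₀ x y).card := by
  classical
  set T := insert e T₀ with hT
  set H := fixingSubgroup G (T : Set α) with hH
  set Ω := SubMulAction.ofFixingSubgroup G (T : Set α)
  have hmem : ∀ z, z ∈ Ω ↔ z ∉ T := fun z => by
    rw [SubMulAction.mem_ofFixingSubgroup_iff, Finset.mem_coe]
  have hTc : T.card = T₀.card + 1 := Finset.card_insert_of_notMem he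
  have hfixT : ∀ h ∈ H, ∀ z ∈ T, (h : Perm α) z = z := fun h hh z hz =>
    (mem_fixingSubgroup_iff _).mp hh z hz
  have htrans : IsPretransitive H Ω := ⟨fun u v => by
    obtain ⟨g, hg, hgz⟩ := extend_map ht htn (insert (u : α) T) (by
      refine (Finset.card_insert_le _ _).trans ?_
      omega) (fun z => if z = (u : α) then (v : α) else z) (fun a ha b hb h => by
        have hv := (hmem _).mp v.2
        simp only [Finset.mem_coe, Finset.mem_insert] at ha hb
        simp only at h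
        grind)
    have hu := (hmem _).mp u.2
    refine ⟨⟨⟨g, hg⟩, (mem_fixingSubgroup_iff _).mpr fun z hz => ?_⟩, Subtype.ext ?_⟩
    · show g z = z
      rw [hgz z (Finset.mem_insert_of_mem hz), if_neg fun e => hu (by rw [← e]; exact hz)]
    · show g u = v
      rw [hgz _ (Finset.mem_insert_self _ _), if_pos rfl]⟩
  obtain ⟨B, hB, hBnt⟩ : ∃ B : Set Ω, IsBlock H B ∧ ¬ IsTrivialBlock B := by
    by_contra h
    push Not at h
    exact hprim { toIsPretransitive := htrans, isTrivialBlock_of_isBlock := fun hB => h _ hB }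
  rw [IsTrivialBlock, not_or, Set.not_subsingleton_iff] at hBnt
  obtain ⟨⟨x, hxB, y, hyB, hxy⟩, hBu⟩ := hBnt
  have hxT := (hmem _).mp x.2
  suffices hy : (y : α) ∈ line G Γ T₀ e x by
    intro u v hu hv huv
    have hxe : (x : α) ≠ e := fun h => hxT (h ▸ Finset.mem_insert_self e T₀)
    have hx0 : (x : α) ∉ T₀ := fun h => hxT (Finset.mem_insert_of_mem h)
    refine le_trans ?_ (line_card ht htn he hx0 hxe.symm hu hv huv)
    have hsub : insert (y : α) (insert e (insert (x : α) T₀)) ⊆ line G Γ T₀ e x :=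
      Finset.insert_subset hy (base_subset_line e x)
    refine le_trans (le_of_eq ?_) (Finset.card_le_card hsub)
    have hyT := (hmem _).mp y.2
    simp only [hT, Finset.mem_insert, not_or] at hyT
    rw [Finset.card_insert_of_notMem, Finset.card_insert_of_notMem, Finset.card_insert_of_notMem hx0]
    · simp [Ne.symm hxe, he]
    · simp [hyT.1, hyT.2, Ne.symm hxy]
  rw [mem_line]
  intro g hg h0 hge hgx hgy
  set Bf : Finset α := (B.toFinite.toFinset).map (Function.Embedding.subtype _) with hBf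
  have hBfmem : ∀ {z : α}, z ∈ Bf ↔ ∃ h : z ∈ Ω, (⟨z, h⟩ : Ω) ∈ B := fun {z} => by
    simp [hBf]
  have inside : ∀ {Δ : Finset α}, JSet G Δ → (∀ z ∈ T, z ∉ Δ) → ∀ (h : H) (u w : Ω), u ∈ h • B → w ∈ h • B →
      (u : α) ∈ Δ → (w : α) ∉ Δ → Δ ⊆ Bf.map ((h : G) : Perm α).toEmbedding := by
    intro Δ hΔ hΔT h u w hu hw huΔ hwΔ v hv
    obtain ⟨j, hj, hjfix, rfl⟩ := hΔ _ huΔ v hv
    let j' : H := ⟨⟨j, hj⟩, (mem_fixingSubgroup_iff _).mpr fun z hz => hjfix z (hΔT z hz)⟩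
    have hjw : j' • w = w := Subtype.ext (hjfix _ hwΔ)
    have hje : j' • (h • B) = h • B :=
      (hB.translate h).smul_eq_of_nonempty ⟨w, ⟨w, hw, hjw⟩, hw⟩
    have : j' • u ∈ h • B := hje ▸ Set.smul_mem_smul_set hu
    obtain ⟨b, hb, hbe⟩ := this
    exact Finset.mem_map.mpr ⟨(b : α), hBfmem.mpr ⟨b.2, hb⟩, congrArg Subtype.val hbe⟩
  set Δ := Γ.map g⁻¹.toEmbedding with hΔdef
  have hΔmem : ∀ z, z ∈ Δ ↔ g z ∈ Γ := fun z => by
    simp only [hΔdef, Finset.mem_map_equiv]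
    rfl
  have hΔT : ∀ z ∈ T, z ∉ Δ := fun z hz h => by
    rw [hΔmem] at h
    rcases Finset.mem_insert.mp hz with rfl | hz
    · exact hge h
    · exact h0 z hz h
  clear_value Bf
  have hone : ∀ v ∈ Δ, v ∈ Bf := fun v hv => by
    have h1 := inside (hΓ.map (inv_mem hg)) hΔT 1 y x (by rwa [one_smul]) (by rwa [one_smul])
      ((hΔmem _).mpr hgy) (fun h => hgx ((hΔmem _).mp h)) hv
    simpa [← Perm.coe_inv] using h1
  have hxΔ : (x : α) ∉ Δ := fun h => hgx ((hΔmem _).mp h)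
  have hBlt : Γ.card < Bf.card := by
    rw [← Finset.card_map (s := Γ) g⁻¹.toEmbedding]
    exact Finset.card_lt_card ((Finset.ssubset_iff_of_subset hone).mpr
      ⟨x, hBfmem.mpr ⟨x.2, hxB⟩, hxΔ⟩)
  obtain ⟨w, hw⟩ := Set.nonempty_compl.mpr hBu
  obtain ⟨h₁, hh₁⟩ := exists_smul_eq H y w
  have hBsmall : 2 * Bf.card + T.card ≤ Fintype.card α := by
    have hne : h₁ • B ≠ B := fun h => hw (h ▸ hh₁ ▸ Set.smul_mem_smul_set hyB)
    have hd := (hB.smul_eq_or_disjoint h₁).resolve_left hne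
    have d1 : Disjoint Bf (Bf.map ((h₁ : G) : Perm α).toEmbedding) := by
      rw [Finset.disjoint_left]
      intro z hz hz'
      obtain ⟨hzΩ, hzB⟩ := hBfmem.mp hz
      obtain ⟨v, hv, e⟩ := Finset.mem_map.mp hz'
      obtain ⟨hvΩ, hvB⟩ := hBfmem.mp hv
      exact Set.disjoint_left.mp hd ⟨⟨v, hvΩ⟩, hvB, Subtype.ext e⟩ hzB
    have d2 : Bf ∪ Bf.map ((h₁ : G) : Perm α).toEmbedding ⊆ Tᶜ := by
      intro z hz
      rw [Finset.mem_compl]
      rcases Finset.mem_union.mp hz with hz | hz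
      · exact (hmem z).mp (hBfmem.mp hz).1
      · obtain ⟨v, hv, rfl⟩ := Finset.mem_map.mp hz
        intro h
        have := hfixT h₁ h₁.2 _ h
        exact (hmem v).mp (hBfmem.mp hv).1 ((((h₁ : G) : Perm α).injective this) ▸ h)
    have h3 := Finset.card_le_card d2
    rw [Finset.card_union_of_disjoint d1, Finset.card_map, Finset.card_compl] at h3
    omega
  obtain ⟨a, ha, b, hb, hab⟩ := Finset.one_lt_card.mp (show 1 < Γ.card by omega)
  haveI := hG
  obtain ⟨g₂, hga, hgb⟩ := MulAction.IsPreprimitive.exists_mem_smul_and_notMem_smul (G := G)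
    (A := (Γ : Set α)) Γ.finite_toSet ⟨a, ha⟩
    (fun h => by
      have := congrArg Set.ncard h
      rw [Set.ncard_coe_finset, Set.ncard_univ, Nat.card_eq_fintype_card] at this
      omega) hab
  set Γ' := Γ.map (g₂ : Perm α).toEmbedding
  have hΓ'mem : ∀ z, z ∈ Γ' ↔ z ∈ g₂ • (Γ : Set α) := fun z => by
    rw [Finset.mem_map_equiv, Set.mem_smul_set_iff_inv_smul_mem]
    rfl
  set U := Γ ∪ Γ' with hU
  have haU : a ∈ Γ ∩ Γ' := Finset.mem_inter.mpr ⟨ha, (hΓ'mem a).mpr hga⟩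
  have hbΓ' : b ∉ Γ' := fun h => hgb ((hΓ'mem b).mp h)
  have hUlt : Γ.card < U.card := by
    refine lt_of_eq_of_lt (Finset.card_map (s := Γ) (g₂ : Perm α).toEmbedding).symm
      (Finset.card_lt_card ((Finset.ssubset_iff_of_subset Finset.subset_union_right).mpr
        ⟨b, Finset.mem_union_left _ hb, hbΓ'⟩))
  have hUle : U.card + 1 ≤ 2 * Γ.card := by
    have h0 : U.card + (Γ ∩ Γ').card = Γ.card + Γ'.card := Finset.card_union_add_card_inter Γ Γ'
    have : 1 ≤ (Γ ∩ Γ').card := Finset.card_pos.mpr ⟨a, haU⟩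
    have : Γ'.card = Γ.card := Finset.card_map _
    omega
  obtain ⟨u, hu, huT⟩ := extend_into ht htn T Uᶜ (by omega) (by
    rw [Finset.card_compl]
    omega)
  have hmv : ∀ {Δ : Finset α}, Δ ⊆ U → ∀ z ∈ T, z ∉ Δ.map u⁻¹.toEmbedding := fun {Δ} hΔU z hz h => by
    rw [Finset.mem_map_equiv] at h
    exact Finset.mem_compl.mp (huT z hz) (hΔU (by simpa [← Perm.coe_inv] using h))
  have hcU : u⁻¹ a ∉ T := fun h => by
    have := Finset.mem_compl.mp (huT _ h)
    simp only [Perm.coe_inv, Equiv.apply_symm_apply] at this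
    exact this (Finset.mem_union_left _ ha)
  obtain ⟨h₂, hh₂⟩ := exists_smul_eq H y (⟨u⁻¹ a, (hmem _).mpr hcU⟩ : Ω)
  have hcB : (⟨u⁻¹ a, (hmem _).mpr hcU⟩ : Ω) ∈ h₂ • B := hh₂ ▸ Set.smul_mem_smul_set hyB
  have hin : ∀ {Δ : Finset α}, JSet G Δ → Δ ⊆ U → Δ.card = Γ.card → a ∈ Δ →
      Δ.map u⁻¹.toEmbedding ⊆ Bf.map ((h₂ : G) : Perm α).toEmbedding := by
    intro Δ hΔ hΔU hΔc haΔ
    obtain ⟨w', hw', hwΔ⟩ : ∃ w' ∈ Bf.map ((h₂ : G) : Perm α).toEmbedding, w' ∉ Δ.map u⁻¹.toEmbedding := by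
      by_contra h
      push Not at h
      have := Finset.card_le_card h
      rw [Finset.card_map, Finset.card_map, hΔc] at this
      omega
    obtain ⟨v, hv, rfl⟩ := Finset.mem_map.mp hw'
    obtain ⟨hvΩ, hvB⟩ := hBfmem.mp hv
    refine inside (hΔ.map (inv_mem hu)) (hmv hΔU) h₂ _ (h₂ • ⟨v, hvΩ⟩) hcB (Set.smul_mem_smul_set hvB) ?_ hwΔ
    exact Finset.mem_map_of_mem _ haΔ
  have h1 := hin hΓ Finset.subset_union_left rfl ha
  have h2 := hin (hΓ.map g₂.2) Finset.subset_union_right (Finset.card_map _) (Finset.mem_inter.mp haU).2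
  have h3 := Finset.union_subset h1 h2
  rw [← Finset.map_union, ← hU] at h3
  have h4 := Finset.card_le_card h3
  rw [Finset.card_map, Finset.card_map] at h4
  have := hmax U (hΓ.union (hΓ.map g₂.2) ⟨a, haU⟩) hUlt
  omega

theorem line_closed_compl {T₀ : Finset α} (hT₀ : ∀ z ∈ T₀, z ∉ Γ) :
    ∀ x ∈ Γᶜ, ∀ y ∈ Γᶜ, x ∉ T₀ → y ∉ T₀ → x ≠ y → line G Γ T₀ x y ⊆ Γᶜ := by
  intro x hx y hy _ _ _ z hz
  rw [Finset.mem_compl] at hx hy ⊢
  exact (mem_line.mp hz) 1 (one_mem G) hT₀ hx hy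

theorem sticky_bound {T₀ : Finset α} (ht : IsMultiplyPretransitive G α (T₀.card + 2))
    (htn : T₀.card + 2 ≤ Fintype.card α) (hne : Γ.Nonempty) (hT₀ : ∀ z ∈ T₀, z ∉ Γ) {d : ℕ}
    (hd : ∀ x y, x ∉ T₀ → y ∉ T₀ → x ≠ y → T₀.card + 2 + d ≤ (line G Γ T₀ x y).card) :
    (Fintype.card α - Γ.card - T₀.card) * d ≤ Γ.card - 1 := by
  obtain ⟨p, hp⟩ := hne
  have h := count_lines ht htn (fun z hz => Finset.mem_compl.mpr (hT₀ z hz)) (line_closed_compl hT₀)
    (p := p) (by simpa using hp) hd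
  rw [Finset.card_compl] at h
  have := Γ.card_le_univ
  omega

end Cfsg.Agent.Marggraf
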