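import Cfsg.Agent.Marggraf.Average
import Cfsg.Agent.Marggraf.Step
import Cfsg.Agent.Manning.Bound

/-!
# Marggraf's theorem

A primitive group with a Jordan set of size `k`, `2 ≤ k < n / 2`, contains the alternating group.
-/

namespace Cfsg.Agent.Marggraf

open Equiv Equiv.Perm MulAction
open scoped Pointwise

variable {α : Type*} [DecidableEq α] [Fintype α] {G : Subgroup (Perm α)} {Γ : Finset α}

theorem trans_four (hG : IsPreprimitive G α) (hΓ : JSet G Γ) (hk : 4 ≤ Γ.card)
    (hmax : ∀ U, JSet G U → Γ.card < U.card → Fintype.card α ≤ 2 * U.card)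
    (hn : 2 * Γ.card < Fintype.card α) : IsMultiplyPretransitive G α 4 := by
  classical
  obtain ⟨p, hp, q, hq, hpq⟩ := Finset.one_lt_card.mp (show 1 < Γᶜ.card by
    rw [Finset.card_compl]; omega)
  rw [Finset.mem_compl] at hp hq
  have h0 : IsMultiplyPretransitive G α 2 := by
    have hsc : ((Γᶜ : Finset α) : Set α).ncard = (Fintype.card α - Γ.card - 1) + 1 := by
      rw [Set.ncard_coe_finset, Finset.card_compl]; omega
    refine hG.is_two_pretransitive hsc (by rw [Nat.card_eq_fintype_card]; omega) ?_
    rw [Finset.coe_compl]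
    exact fixingSubgroup_pretransitive hΓ
  have h1 : IsMultiplyPretransitive G α 3 := by
    by_cases hp1 : IsPreprimitive ↥(fixingSubgroup G ((insert p ∅ : Finset α) : Set α))
        ↥(SubMulAction.ofFixingSubgroup G ((insert p ∅ : Finset α) : Set α))
    · have h := two_more hΓ (by omega) (T := insert p ∅)
        (fun z hz => by
          simp only [Finset.mem_insert, Finset.notMem_empty, or_false] at hz
          exact hz ▸ hp)
        (by simp only [Finset.card_insert_of_notMem (Finset.notMem_empty p), Finset.card_empty]; omega)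
        (by
          simp only [Finset.card_insert_of_notMem (Finset.notMem_empty p), Finset.card_empty]
          exact isMultiplyPretransitive_of_le (n := 2) (by omega) (by simp; omega)) hp1
      simpa using h
    · exfalso
      have hc := sticky hG hΓ (by omega) hmax hn (T₀ := ∅) (Finset.notMem_empty p) h0
        (by simp only [Finset.card_empty]; omega) hp1
      have := sticky_bound (Γ := Γ) (T₀ := ∅) (d := 1) h0 (by simp only [Finset.card_empty]; omega)
        (Finset.card_pos.mp (by omega)) (fun z hz => absurd hz (Finset.notMem_empty z))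
        (fun x y h h' h'' => by have := hc x y h h' h''; simp at this ⊢; omega)
      simp at this
      omega
  have hc2 : (insert q {p} : Finset α).card = 2 := Finset.card_pair hpq.symm
  by_cases hp2 : IsPreprimitive ↥(fixingSubgroup G ((insert q {p} : Finset α) : Set α))
      ↥(SubMulAction.ofFixingSubgroup G ((insert q {p} : Finset α) : Set α))
  · have h := two_more hΓ (by omega) (T := insert q {p})
      (fun z hz => by
        simp only [Finset.mem_insert, Finset.mem_singleton] at hz
        rcases hz with rfl | rfl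
        · exact hq
        · exact hp)
      (by rw [hc2]; omega) (by rw [hc2]; exact h0) hp2
    rwa [hc2] at h
  · exfalso
    have hc := sticky hG hΓ (by omega) hmax hn (T₀ := {p}) (by simpa using hpq.symm)
      (by simpa using h1) (by simp; omega) hp2
    have := sticky_bound (Γ := Γ) (T₀ := {p}) (d := 1) (by simpa using h1) (by simp; omega)
      (Finset.card_pos.mp (by omega)) (fun z hz => by rw [Finset.mem_singleton] at hz; exact hz ▸ hp)
      (fun x y h h' h'' => by have := hc x y h h' h''; simp at this ⊢; omega)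
    simp at this
    omega

theorem pow_four_of_support_four {x : Perm α} (h : x.support.card = 4) : x ^ 4 = 1 := by
  rw [← orderOf_dvd_iff_pow_eq_one, ← Perm.lcm_cycleType]
  refine Multiset.lcm_dvd.mpr fun r hr => ?_
  have h2 := Perm.two_le_of_mem_cycleType hr
  have hsum := Perm.sum_cycleType x
  rw [h, ← Multiset.cons_erase hr, Multiset.sum_cons] at hsum
  have : r ≠ 3 := by
    intro e
    have h1 : (x.cycleType.erase r).sum = 1 := by omega
    rcases Multiset.empty_or_exists_mem (x.cycleType.erase r) with e' | ⟨s, hs⟩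
    · rw [e'] at h1; simp at h1
    · have hs2 := Perm.two_le_of_mem_cycleType (Multiset.mem_of_mem_erase hs)
      have := Multiset.le_sum_of_mem hs
      omega
  rcases (show r = 2 ∨ r = 4 by omega) with rfl | rfl <;> decide

/-- **Marggraf**: a primitive group with a small Jordan set contains the alternating group. -/
theorem marggraf (hG : IsPreprimitive G α) {Γ₀ : Finset α} (hΓ₀ : JSet G Γ₀) (hk₀ : 2 ≤ Γ₀.card)
    (hn₀ : 2 * Γ₀.card < Fintype.card α) : alternatingGroup α ≤ G := by
  classical
  obtain ⟨Γ, hΓm, hmax'⟩ := (Finset.univ.filter fun U : Finset α =>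
    JSet G U ∧ 2 * U.card < Fintype.card α).exists_max_image Finset.card ⟨Γ₀, by simp [hΓ₀, hn₀]⟩
  simp only [Finset.mem_filter, Finset.mem_univ, true_and] at hΓm hmax'
  obtain ⟨hΓ, hn⟩ := hΓm
  have hk2 : 2 ≤ Γ.card := hk₀.trans (hmax' Γ₀ ⟨hΓ₀, hn₀⟩)
  have hmax : ∀ U, JSet G U → Γ.card < U.card → Fintype.card α ≤ 2 * U.card := fun U hU hlt =>
    not_lt.mp fun h => absurd (hmax' U ⟨hU, h⟩) (not_le.mpr hlt)
  obtain ⟨a, ha, b, hb, hab⟩ := Finset.one_lt_card.mp (show 1 < Γ.card by omega)
  obtain ⟨j, hj, hjfix, hjab⟩ := hΓ a ha b hb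
  have hj1 : j ≠ 1 := fun e => hab (by rw [← hjab, e, Perm.one_apply])
  have hjsub : j.support ⊆ Γ := fun z hz => by_contra fun h => Perm.mem_support.mp hz (hjfix z h)
  have hjc := Finset.card_le_card hjsub
  by_cases hk : Γ.card ≤ 3
  · exact of_small_support hG hj hj1 (by omega)
  have h4 := trans_four hG hΓ (by omega) hmax hn
  by_cases hmin : ∀ g ∈ G, g ≠ 1 → Γ.card ≤ g.support.card
  · exact average h4 hG hΓ (by omega) hn hmin
  push Not at hmin
  obtain ⟨g₀, hg₀, hg₀1, hg₀k⟩ := hmin
  obtain ⟨x, hxm, hxmin⟩ := (Finset.univ.filter fun g : Perm α => g ∈ G ∧ g ≠ 1).exists_min_image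
    (fun g => g.support.card) ⟨g₀, by simp [hg₀, hg₀1]⟩
  simp only [Finset.mem_filter, Finset.mem_univ, true_and] at hxm hxmin
  obtain ⟨hx, hx1⟩ := hxm
  have hmk : x.support.card < Γ.card := (hxmin g₀ ⟨hg₀, hg₀1⟩).trans_lt hg₀k
  by_cases hm3 : x.support.card ≤ 3
  · exact of_small_support hG hx hx1 hm3
  by_cases hm4 : x.support.card = 4
  · by_cases h2 : x * x = 1
    · exact Manning.of_double_swap h4 (by omega) hx h2 hm4
    · refine Manning.of_double_swap h4 (by omega) (mul_mem hx hx) ?_ ?_
      · rw [← sq, ← sq, ← pow_mul]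
        exact pow_four_of_support_four hm4
      · refine le_antisymm ?_ (hm4 ▸ hxmin _ ⟨mul_mem hx hx, h2⟩)
        refine (Finset.card_le_card ?_).trans hm4.le
        intro z hz
        rw [Perm.mem_support] at hz ⊢
        exact fun e => hz (by rw [Perm.mul_apply, e, e])
  by_cases hex : x * x = 1 ∧ x.support.card = 6 ∧ Fintype.card α ≤ 15
  · obtain ⟨hx2, hm6, hn15⟩ := hex
    have hk7 : Γ.card = 7 := by omega
    have hn' : Fintype.card α = 15 := by omega
    obtain ⟨T₀, hT₀, hT₀c⟩ := Finset.exists_subset_card_eq (show 2 ≤ (Γᶜ \ x.support).card by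
      have := Finset.le_card_sdiff x.support Γᶜ
      rw [Finset.card_compl] at this
      omega)
    have hT₀Γ : ∀ z ∈ T₀, z ∉ Γ := fun z hz => Finset.mem_compl.mp (Finset.mem_sdiff.mp (hT₀ hz)).1
    have hT₀x : ∀ z ∈ T₀, z ∉ x.support := fun z hz => (Finset.mem_sdiff.mp (hT₀ hz)).2
    obtain ⟨e, he, he0⟩ := Finset.exists_mem_notMem_of_card_lt_card (show T₀.card < Γᶜ.card by
      rw [Finset.card_compl]; omega)
    have hTc : (insert e T₀).card = 3 := by rw [Finset.card_insert_of_notMem he0, hT₀c]
    by_cases hp3 : IsPreprimitive ↥(fixingSubgroup G ((insert e T₀ : Finset α) : Set α))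
        ↥(SubMulAction.ofFixingSubgroup G ((insert e T₀ : Finset α) : Set α))
    · have h5 := two_more hΓ hk2 (T := insert e T₀)
        (fun z hz => by
          rcases Finset.mem_insert.mp hz with rfl | hz
          · exact Finset.mem_compl.mp he
          · exact hT₀Γ z hz)
        (by rw [hTc]; omega)
        (by rw [hTc]; exact isMultiplyPretransitive_of_le (n := 4) (by omega) (by simp; omega)) hp3
      rw [hTc] at h5
      exact Manning.bound (p := 11) (k := 1) (r := 4) (by norm_num) (by omega) (by omega) (by omega)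
        (by omega) (by simp) h5
    exfalso
    have ht : IsMultiplyPretransitive G α (T₀.card + 2) := by rw [hT₀c]; exact h4
    have htn : T₀.card + 2 ≤ Fintype.card α := by omega
    have hc := sticky hG hΓ hk2 hmax hn he0 ht htn hp3
    obtain ⟨u, v, hu, hv, huv, hle⟩ : ∃ u v, u ∉ T₀ ∧ v ∉ T₀ ∧ u ≠ v ∧
        (line G Γ T₀ u v).card ≤ T₀.card + 3 := by
      by_contra h
      push Not at h
      have := sticky_bound ht htn (Finset.card_pos.mp (show 0 < Γ.card by omega)) hT₀Γ (d := 2)
        (fun s t hs ht' hst => h s t hs ht' hst)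
      rw [hT₀c, hk7, hn'] at this
      omega
    obtain ⟨p, hp⟩ : x.support.Nonempty := Finset.card_pos.mp (by omega)
    have hclosed : ∀ s ∈ x.supportᶜ, ∀ t ∈ x.supportᶜ, s ∉ T₀ → t ∉ T₀ → s ≠ t →
        line G Γ T₀ s t ⊆ x.supportᶜ := by
      intro s hs t ht' hs0 ht0 hst z hz
      simp only [Finset.mem_compl, Perm.notMem_support] at hs ht' ⊢
      by_contra hxz
      have hfix : ∀ w ∈ T₀, x w = w := fun w hw => Perm.notMem_support.mp (hT₀x w hw)
      have hxzl : x z ∈ line G Γ T₀ s t := by
        have := line_map hx hfix hz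
        rwa [hs, ht'] at this
      have hbase : ∀ w ∈ insert s (insert t T₀), x w = w := by
        intro w hw
        simp only [Finset.mem_insert] at hw
        rcases hw with rfl | rfl | hw
        · exact hs
        · exact ht'
        · exact hfix w hw
      have hzb : z ∉ insert s (insert t T₀) := fun h => hxz (hbase z h)
      have hxzb : x z ∉ insert s (insert t T₀) := fun h => hxz (x.injective (hbase _ h))
      have hsub : insert (x z) (insert z (insert s (insert t T₀))) ⊆ line G Γ T₀ s t :=
        Finset.insert_subset hxzl (Finset.insert_subset hz (base_subset_line s t))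
      have h1 := Finset.card_le_card hsub
      rw [Finset.card_insert_of_notMem (by
          rw [Finset.mem_insert, not_or]
          exact ⟨hxz, hxzb⟩),
        Finset.card_insert_of_notMem hzb, Finset.card_insert_of_notMem (by simp [hst, hs0]),
        Finset.card_insert_of_notMem ht0] at h1
      have h2 := (line_card (Γ := Γ) ht htn hs0 ht0 hst hu hv huv).trans hle
      omega
    have h := count_lines ht htn (s := x.supportᶜ) (fun z hz => Finset.mem_compl.mpr (hT₀x z hz))
      hclosed (p := p) (by simpa using hp) (d := 1) (fun s t hs ht' hst => hc s t hs ht' hst)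
    rw [Finset.card_compl, hm6, hn', hT₀c] at h
    omega
  exfalso
  refine min_degree h4 hx (by omega) (by omega) (fun g hg hg1 => hxmin g ⟨hg, hg1⟩)
    (fun e => absurd e hm4) fun h2 h6 => ?_
  by_contra h
  exact hex ⟨h2, h6, by omega⟩

end Cfsg.Agent.Marggraf
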