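import Cfsg.Agent.Marggraf.Basic
import Cfsg.Agent.Marggraf.Count

/-!
# The minimal degree of a 4-transitive group

Averaging the support of a commutator `⁅x, x^h⁆` over the `h` for which it is nontrivial.
-/

namespace Cfsg.Agent.Marggraf

open Equiv Equiv.Perm MulAction
open scoped commutatorElement

variable {α : Type*} [DecidableEq α] [Fintype α] {G : Subgroup (Perm α)}

omit [DecidableEq α] [Fintype α] in
theorem sum_card_swap {β : Type*} (E : Finset β) (S : Finset α) (P : β → α → Prop)
    [∀ h z, Decidable (P h z)] :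
    ∑ h ∈ E, (S.filter fun z => P h z).card = ∑ z ∈ S, (E.filter fun h => P h z).card := by
  simp only [Finset.card_filter]
  exact Finset.sum_comm

theorem arith_gen {m n : ℕ} (hm : 4 ≤ m) (hn : 2 * m + 3 ≤ n) (h4 : m = 4 → 12 ≤ n) :
    (n-2)*(n-3) + (m-2)*((m-1)*(n-3)) + ((n-2)*(n-3) + (m-3)*((m-1)*(n-m-1))) +
      (n-m)*((n-3) + (m-2)*(m-2)) < m*((n-2)*(n-3)) := by
  obtain ⟨d, rfl⟩ := Nat.exists_eq_add_of_le hn
  rcases (show m = 4 ∨ 5 ≤ m by omega) with rfl | h5
  · have : 1 ≤ d := by have := h4 rfl; omega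
    simp only [show 2 * 4 + 3 + d - 2 = 9 + d by omega, show 2 * 4 + 3 + d - 3 = 8 + d by omega,
      show 2 * 4 + 3 + d - 4 = 7 + d by omega, show 7 + d - 1 = 6 + d by omega]
    nlinarith
  obtain ⟨e, rfl⟩ := Nat.exists_eq_add_of_le h5
  simp only [show 2 * (5 + e) + 3 + d - 2 = 2*e+11+d by omega, show 2 * (5 + e) + 3 + d - 3 = 2*e+10+d by omega,
    show 2 * (5 + e) + 3 + d - (5 + e) = e+8+d by omega, show e + 8 + d - 1 = e+7+d by omega,
    show 5 + e - 2 = e + 3 by omega, show 5 + e - 1 = e + 4 by omega, show 5 + e - 3 = e + 2 by omega]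
  nlinarith [Nat.zero_le (e*e*d), Nat.zero_le (e*d*d), Nat.zero_le (e*e), Nat.zero_le (e*d), Nat.zero_le (d*d)]

theorem arith_inv {m n : ℕ} (hm : 6 ≤ m) (hn : 2 * m + 3 ≤ n) (h6 : m = 6 → 16 ≤ n)
    (h7 : m ≠ 7) :
    (n-2)*(n-3) + (m-2)*((m-1)*(n-3)) + ((n-2)*(n-3) + (m-2)*((m-1)*(n-m-1))) +
      (n-m)*((n-3) + (m-2)*(m-2)) < m*((n-2)*(n-3)) + (m-2)*(m-2) := by
  obtain ⟨d, rfl⟩ := Nat.exists_eq_add_of_le hn
  rcases (show m = 6 ∨ 8 ≤ m by omega) with rfl | h8
  · have : 1 ≤ d := by have := h6 rfl; omega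
    simp only [show 2 * 6 + 3 + d - 2 = 13 + d by omega, show 2 * 6 + 3 + d - 3 = 12 + d by omega,
      show 2 * 6 + 3 + d - 6 = 9 + d by omega, show 9 + d - 1 = 8 + d by omega]
    nlinarith
  obtain ⟨e, rfl⟩ := Nat.exists_eq_add_of_le h8
  simp only [show 2 * (8 + e) + 3 + d - 2 = 2*e+17+d by omega, show 2 * (8 + e) + 3 + d - 3 = 2*e+16+d by omega,
    show 2 * (8 + e) + 3 + d - (8 + e) = e+11+d by omega, show e + 11 + d - 1 = e+10+d by omega,
    show 8 + e - 2 = e + 6 by omega, show 8 + e - 1 = e + 7 by omega]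
  nlinarith [Nat.zero_le (e*e*d), Nat.zero_le (e*d*d), Nat.zero_le (e*e), Nat.zero_le (e*d), Nat.zero_le (d*d)]

/-- A 4-transitive group of degree `n` has no minimal element moving `m` points with `2m + 3 ≤ n`,
apart from involutions with `m = 4` or `(m, n) = (6, 15)`, and `(m, n) = (4, 11)`. -/
theorem min_degree (h4 : IsMultiplyPretransitive G α 4) {x : Perm α} (hx : x ∈ G)
    (hm4 : 4 ≤ x.support.card) (hn : 2 * x.support.card + 3 ≤ Fintype.card α)
    (hmin : ∀ g ∈ G, g ≠ 1 → x.support.card ≤ g.support.card)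
    (he4 : x.support.card = 4 → 12 ≤ Fintype.card α ∧ x * x ≠ 1)
    (he6 : x * x = 1 → x.support.card = 6 → 16 ≤ Fintype.card α) : False := by
  classical
  set S := x.support with hS
  set m := S.card with hm
  set n := Fintype.card α with hn'
  have hsupp : ∀ z, z ∈ S ↔ x z ≠ z := fun z => Perm.mem_support
  have hxS : ∀ z, x z ∈ S ↔ z ∈ S := fun z => Perm.apply_mem_support
  obtain ⟨a, ha, hagen⟩ : ∃ a ∈ S, x * x ≠ 1 → x (x a) ≠ a := by
    by_cases h2 : x * x = 1
    · obtain ⟨a, ha⟩ : S.Nonempty := Finset.card_pos.mp (by omega)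
      exact ⟨a, ha, fun h => absurd h2 h⟩
    · obtain ⟨a, ha⟩ : ∃ a, x (x a) ≠ a := by
        by_contra h
        push Not at h
        exact h2 (Perm.ext fun z => by simpa using h z)
      exact ⟨a, (hsupp a).mpr fun e => ha (by rw [e, e]), fun _ => ha⟩
  set b := x a with hb
  have hbS : b ∈ S := (hxS a).mpr ha
  have hab : a ≠ b := fun e => (hsupp a).mp ha (hb ▸ e.symm)
  have hSc : Sᶜ.card = n - m := Finset.card_compl S
  have h₀ : ∃ a₀ b₀ c₀ d₀ : α, Distinct4 a₀ b₀ c₀ d₀ := by
    obtain ⟨s, -, hs⟩ := Finset.exists_subset_card_eq (show 4 ≤ (Finset.univ : Finset α).card by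
      rw [Finset.card_univ]; omega)
    let e := (s.equivFinOfCardEq hs).symm
    have hne : ∀ i j : Fin 4, i ≠ j → (e i : α) ≠ e j := fun i j h h' => h (e.injective (Subtype.ext h'))
    exact ⟨e 0, e 1, e 2, e 3, hne _ _ (by decide), hne _ _ (by decide), hne _ _ (by decide),
      hne _ _ (by decide), hne _ _ (by decide), hne _ _ (by decide)⟩
  obtain ⟨a₀, b₀, c₀, d₀, h₀⟩ := h₀
  set K := (fibre G a₀ b₀ c₀ d₀ a₀ b₀ c₀ d₀).card with hK
  have hKpos : 0 < K := Finset.card_pos.mpr ⟨1, by simp [fibre]⟩
  have hn4 : 4 ≤ Fintype.card α := by omega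
  let y : ↥G → Perm α := fun h : ↥G => (h : Perm α)⁻¹ * x * (h : Perm α)
  have hy : ∀ h z, z ∈ (y h).support ↔ (h : Perm α) z ∈ S := by
    intro h z
    rw [Perm.mem_support, hsupp]
    simp only [y, Perm.mul_apply, Ne, Perm.inv_eq_iff_eq]
  set E : Finset ↥G := Finset.univ.filter fun h : ↥G => (h : Perm α) a ∈ S ∧ (h : Perm α) b ∈ Sᶜ with hE
  set P : ℕ := m * (n - m) * K with hP
  have hdisj : Disjoint S Sᶜ := disjoint_compl_right
  have hEc : E.card = P * ((n - 2) * (n - 3)) := by
    rw [hE, count2 h4 hab h₀ hn4 hdisj, hSc, hP, ← hn', ← hK, ← hm]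
    ring
  let I : ↥G → Finset α := fun h => S.filter fun z => (h : Perm α) z ∈ S
  let X : ↥G → Finset α := fun h => S.filter fun z => (h : Perm α) z ∈ S ∧ (h : Perm α) (x z) ∈ Sᶜ
  let Y : ↥G → Finset α := fun h => S.filter fun z => (h : Perm α) z ∈ S ∧ y h z ∈ Sᶜ
  let F : ↥G → Finset α := fun h =>
    S.filter fun z => x * x = 1 ∧ (h : Perm α) z ∈ S ∧ y h z = x z
  have hlow : ∀ h ∈ E, m + (F h).card ≤ (I h).card + (X h).card + (Y h).card := by
    intro h hh
    simp only [hE, Finset.mem_filter, Finset.mem_univ, true_and] at hh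
    have hy' : y h ∈ G := mul_mem (mul_mem (inv_mem h.2) hx) h.2
    have hc : ⁅x, y h⁆ ∈ G := by
      rw [commutatorElement_def]
      exact mul_mem (mul_mem (mul_mem hx hy') (inv_mem hx)) (inv_mem hy')
    have hne : ⁅x, y h⁆ ≠ 1 := commutator_ne_one ((hy h a).mpr hh.1)
      (fun e => Finset.mem_compl.mp hh.2 ((hy h b).mp e))
    have hmle := hmin _ hc hne
    have hI : x.support ∩ (y h).support = I h := by
      ext z; simp [I, hy, hS]
    have hsub := support_commutator_subset x (y h)
    rw [hI] at hsub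
    have eX : ((I h).filter fun z => x z ∉ (y h).support) = X h := by
      ext z; simp [I, X, hy, and_assoc]
    have eY : ((I h).filter fun z => y h z ∉ x.support) = Y h := by
      ext z; simp [I, Y, hS, and_assoc]
    rw [eX, eY] at hsub
    have hFI : F h ⊆ I h := fun z hz => by
      simp only [F, I, Finset.mem_filter] at hz ⊢
      exact ⟨hz.1, hz.2.2.1⟩
    have hFd : Disjoint ⁅x, y h⁆.support (F h) := by
      rw [Finset.disjoint_left]
      intro z hz hzF
      simp only [F, Finset.mem_filter] at hzF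
      obtain ⟨-, h2, -, he⟩ := hzF
      refine Perm.mem_support.mp hz ?_
      have hxx : ∀ w, x (x w) = w := fun w => by rw [← Perm.mul_apply, h2, Perm.one_apply]
      have hxi : x⁻¹ = x := inv_eq_of_mul_eq_one_left h2
      have hyy : (y h) * (y h) = 1 := by
        simp only [y]
        rw [show (h : Perm α)⁻¹ * x * (h : Perm α) * ((h : Perm α)⁻¹ * x * (h : Perm α)) =
          (h : Perm α)⁻¹ * (x * x) * (h : Perm α) by group, h2]
        group
      have hyi : (y h)⁻¹ = y h := inv_eq_of_mul_eq_one_left hyy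
      have hyxz : y h (x z) = z := by rw [← he, ← Perm.mul_apply, hyy, Perm.one_apply]
      rw [commutatorElement_def, hxi, hyi]
      simp only [Perm.mul_apply, he, hxx, he]
    have hu : ⁅x, y h⁆.support ⊆ (I h \ F h) ∪ (X h).image x ∪ (Y h).image (y h) := by
      intro z hz
      have h1 := hsub hz
      have h2 : z ∉ F h := Finset.disjoint_left.mp hFd hz
      simp only [Finset.mem_union, Finset.mem_sdiff] at h1 ⊢
      tauto
    have h1 := (Finset.card_le_card hu).trans (Finset.card_union_le _ _)
    have h2 := Finset.card_union_le (I h \ F h) ((X h).image x)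
    have h3 := (Finset.card_image_le (s := X h) (f := x))
    have h4' := (Finset.card_image_le (s := Y h) (f := y h))
    have h5 := Finset.card_sdiff_add_card_eq_card hFI
    omega
  have hsum : m * E.card + ∑ h ∈ E, (F h).card ≤
      ∑ h ∈ E, (I h).card + ∑ h ∈ E, (X h).card + ∑ h ∈ E, (Y h).card := by
    have := Finset.sum_le_sum hlow
    rw [Finset.sum_add_distrib, Finset.sum_add_distrib, Finset.sum_add_distrib, Finset.sum_const,
      smul_eq_mul] at this
    rw [mul_comm m]
    exact this
  have hI : ∑ h ∈ E, (I h).card ≤ P * ((n-2)*(n-3) + (m-2)*((m-1)*(n-3))) := by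
    rw [sum_card_swap]
    rw [← Finset.sum_erase_add S _ ha]
    rw [← Finset.sum_erase_add (S.erase a) _ (Finset.mem_erase.mpr ⟨hab.symm, hbS⟩)]
    have hb0 : (E.filter fun h : ↥G => (h : Perm α) b ∈ S).card = 0 := by
      rw [Finset.card_eq_zero, Finset.filter_eq_empty_iff]
      intro h hh hh'
      simp only [hE, Finset.mem_filter, Finset.mem_univ, true_and, Finset.mem_compl] at hh
      exact hh.2 hh'
    have hrest : ∀ z ∈ (S.erase a).erase b, (E.filter fun h : ↥G => (h : Perm α) z ∈ S).card =
        P * ((m - 1) * (n - 3)) := by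
      intro z hz
      simp only [Finset.mem_erase] at hz
      rw [hE, Finset.filter_filter]
      simp only [and_assoc]
      rw [count3 h4 hab (Ne.symm hz.2.1) (Ne.symm hz.1) h₀ hn4 S Sᶜ S, card_alternating3, hP, ← hn', ← hK, ← hm]
      ring
    rw [Finset.sum_congr rfl hrest, Finset.sum_const, smul_eq_mul, hb0,
      Finset.card_erase_of_mem (Finset.mem_erase.mpr ⟨hab.symm, hbS⟩), Finset.card_erase_of_mem ha]
    have : (E.filter fun h : ↥G => (h : Perm α) a ∈ S).card ≤ E.card := Finset.card_filter_le _ _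
    rw [hEc] at this
    rw [show m - 1 - 1 = m - 2 by omega]
    rw [show P * ((n-2)*(n-3) + (m-2)*((m-1)*(n-3))) =
      (m-2) * (P * ((m-1)*(n-3))) + P * ((n-2)*(n-3)) by ring]
    omega
  have hX : ∑ h ∈ E, (X h).card ≤ P * ((n-2)*(n-3) +
      (if x * x = 1 then m - 2 else m - 3) * ((m-1)*(n-m-1))) := by
    rw [sum_card_swap]
    set z₀ := x.symm a with hz₀
    have hxz₀ : x z₀ = a := x.apply_symm_apply a
    set S' := ((S.erase a).erase b).erase z₀ with hS'
    have hrest : ∀ z ∈ S', (E.filter fun h : ↥G => (h : Perm α) z ∈ S ∧ (h : Perm α) (x z) ∈ Sᶜ).card =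
        P * ((m - 1) * (n - m - 1)) := by
      intro z hz
      simp only [hS', Finset.mem_erase] at hz
      obtain ⟨hz1, hz2, hz3, hzS⟩ := hz
      rw [hE, Finset.filter_filter]
      simp only [and_assoc]
      rw [count4 h4 (a := a) (b := b) (c := z) (d := x z) ⟨hab, Ne.symm hz3,
        fun e => hz1 (x.injective (by rw [hxz₀, ← e])), Ne.symm hz2,
        fun e => hz3 (x.injective (hb ▸ e)).symm, ((hsupp z).mp hzS).symm⟩ h₀ S Sᶜ S Sᶜ,
        card_alternating4, hP, ← hn', ← hK, ← hm]
      ring
    have hzero : ∀ z ∈ S, z ≠ a → z ∉ S' →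
        (E.filter fun h : ↥G => (h : Perm α) z ∈ S ∧ (h : Perm α) (x z) ∈ Sᶜ).card = 0 := by
      intro z hz hza hz'
      rw [Finset.card_eq_zero, Finset.filter_eq_empty_iff]
      intro h hh hh'
      simp only [hE, Finset.mem_filter, Finset.mem_univ, true_and, Finset.mem_compl] at hh hh'
      simp only [hS', Finset.mem_erase, hz, hza, ne_eq, not_false_eq_true, true_and, and_true, not_and,
        not_not] at hz'
      by_cases e : z = b
      · exact hh.2 (e ▸ hh'.1)
      · have : z = z₀ := by tauto
        rw [this, hxz₀] at hh'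
        exact hh'.2 hh.1
    have hsub : S' ⊆ S.erase a := (Finset.erase_subset _ _).trans (Finset.erase_subset _ _)
    rw [← Finset.sum_erase_add S _ ha, ← Finset.sum_subset hsub (fun z hz hz' =>
      hzero z (Finset.mem_erase.mp hz).2 (Finset.mem_erase.mp hz).1 hz'),
      Finset.sum_congr rfl hrest, Finset.sum_const, smul_eq_mul]
    have hcard : S'.card ≤ if x * x = 1 then m - 2 else m - 3 := by
      have hbe : ((S.erase a).erase b).card = m - 2 := by
        rw [Finset.card_erase_of_mem (Finset.mem_erase.mpr ⟨hab.symm, hbS⟩), Finset.card_erase_of_mem ha]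
        omega
      split_ifs with h2
      · exact (Finset.card_erase_le).trans hbe.le
      · have hz₀S : z₀ ∈ S := by rw [← hxS, hxz₀]; exact ha
        have : z₀ ∈ (S.erase a).erase b := Finset.mem_erase.mpr ⟨fun e => hagen h2 (by
          rw [← e]; exact hxz₀), Finset.mem_erase.mpr ⟨fun e => (hsupp a).mp ha (e ▸ hxz₀), hz₀S⟩⟩
        rw [hS', Finset.card_erase_of_mem this, hbe]
        omega
    have : (E.filter fun h : ↥G => (h : Perm α) a ∈ S ∧ (h : Perm α) (x a) ∈ Sᶜ).card ≤ E.card :=
      Finset.card_filter_le _ _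
    rw [hEc] at this
    have h' := Nat.mul_le_mul_right (P * ((m - 1) * (n - m - 1))) hcard
    rw [mul_add, mul_left_comm P (if x * x = 1 then m - 2 else m - 3)]
    omega
  have hY : ∑ h ∈ E, (Y h).card ≤ P * ((n-m) * ((n-3) + (m-2)*(m-2))) := by
    have hY' : ∀ h : ↥G, (Y h).card = (S.filter fun q =>
        (h : Perm α).symm q ∈ S ∧ (h : Perm α).symm (x q) ∈ Sᶜ).card := by
      intro h
      refine Finset.card_nbij' (fun z => (h : Perm α) z) (fun q => (h : Perm α).symm q) ?_ ?_
        (fun z _ => by simp) (fun q _ => by simp)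
      · intro z hz
        simp only [Y, Finset.mem_coe, Finset.mem_filter] at hz ⊢
        simp only [y, Perm.mul_apply, Perm.coe_inv] at hz ⊢
        exact ⟨hz.2.1, by simpa using hz.1, hz.2.2⟩
      · intro q hq
        simp only [Y, Finset.mem_coe, Finset.mem_filter] at hq ⊢
        simp only [y, Perm.mul_apply, Perm.coe_inv] at hq ⊢
        exact ⟨hq.2.1, by simpa using hq.1, by simpa using hq.2.2⟩
    rw [Finset.sum_congr rfl (fun h _ => hY' h), sum_card_swap]
    have hq : ∀ q ∈ S, (E.filter fun h : ↥G => (h : Perm α).symm q ∈ S ∧ (h : Perm α).symm (x q) ∈ Sᶜ).card ≤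
        (n - m) * ((n - m) * (((n - 3) + (m - 2) * (m - 2)) * K)) := by
      intro q hq
      have hxq : x q ∈ S := (hxS q).mpr hq
      have hqq : q ≠ x q := ((hsupp q).mp hq).symm
      let E' : Finset ↥G := Finset.univ.filter fun g => (g : Perm α).symm a ∈ S ∧
        (g : Perm α).symm b ∈ Sᶜ ∧ (g : Perm α) q ∈ S ∧ (g : Perm α) (x q) ∈ Sᶜ
      have e1 : (E.filter fun h : ↥G => (h : Perm α).symm q ∈ S ∧ (h : Perm α).symm (x q) ∈ Sᶜ).card =
          E'.card := by
        refine Finset.card_equiv (Equiv.inv ↥G) fun h => ?_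
        simp only [E', hE, Finset.mem_filter, Finset.mem_univ, true_and, Equiv.inv_apply,
          InvMemClass.coe_inv, Perm.coe_inv]
        simp only [← Perm.coe_inv, inv_inv]
        tauto
      rw [e1, Finset.card_eq_sum_card_fiberwise (t := S ×ˢ Sᶜ)
        (f := fun g : ↥G => ((g : Perm α).symm a, (g : Perm α).symm b)) (by
          intro g hg
          simp only [E', Finset.mem_coe, Finset.mem_filter, Finset.mem_univ, true_and] at hg
          exact Finset.mem_product.mpr ⟨hg.1, hg.2.1⟩), Finset.sum_product, Finset.sum_comm]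
      have hv : ∀ v ∈ Sᶜ, (∑ u ∈ S, (E'.filter fun g : ↥G =>
          ((g : Perm α).symm a, (g : Perm α).symm b) = (u, v)).card) ≤
          (n - m) * (((n - 3) + (m - 2) * (m - 2)) * K) := by
        intro v hv'
        have hv : v ∉ S := Finset.mem_compl.mp hv'
        rw [← Finset.sum_erase_add S _ hq, ← Finset.sum_erase_add (S.erase q) _
          (Finset.mem_erase.mpr ⟨hqq.symm, hxq⟩)]
        have h1 : (E'.filter fun g : ↥G => ((g : Perm α).symm a, (g : Perm α).symm b) = (x q, v)).card = 0 := by
          rw [Finset.card_eq_zero, Finset.filter_eq_empty_iff]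
          intro g hg e
          simp only [E', Finset.mem_filter, Finset.mem_univ, true_and, Finset.mem_compl] at hg
          refine hg.2.2.2 ?_
          have e1 : (g : Perm α).symm a = x q := congrArg Prod.fst e
          rw [← e1]
          simpa using ha
        have h2 : (E'.filter fun g : ↥G => ((g : Perm α).symm a, (g : Perm α).symm b) = (q, v)).card ≤
            (n - m) * (n - 3) * K := by
          refine (Finset.card_le_card (t := Finset.univ.filter fun g : ↥G => (g : Perm α) q ∈ ({a} : Finset α) ∧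
            (g : Perm α) v ∈ ({b} : Finset α) ∧ (g : Perm α) (x q) ∈ Sᶜ) ?_).trans ?_
          · intro g hg
            simp only [E', Finset.mem_filter, Finset.mem_univ, true_and, Prod.mk.injEq] at hg
            obtain ⟨⟨-, -, -, h'⟩, e1, e2⟩ := hg
            simp only [Finset.mem_filter, Finset.mem_univ, true_and, Finset.mem_singleton]
            exact ⟨by rw [← e1]; simp, by rw [← e2]; simp, h'⟩
          · rw [count3 h4 (a := q) (b := v) (c := x q) (fun e => hv (e ▸ hq)) hqq
              (fun e => hv (e ▸ hxq)) h₀ hn4, card_disjoint3 _ _ _ (Finset.disjoint_singleton.mpr hab)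
              (Finset.disjoint_singleton_left.mpr (by simpa using ha))
              (Finset.disjoint_singleton_left.mpr (by simpa using hbS)), hSc, ← hn', ← hK,
              Finset.card_singleton, Finset.card_singleton, one_mul, one_mul]
        have h3 : ∀ u ∈ (S.erase q).erase (x q), (E'.filter fun g : ↥G =>
            ((g : Perm α).symm a, (g : Perm α).symm b) = (u, v)).card ≤ (m - 2) * (n - m) * K := by
          intro u hu
          simp only [Finset.mem_erase] at hu
          obtain ⟨hu1, hu2, huS⟩ := hu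
          refine (Finset.card_le_card (t := Finset.univ.filter fun g : ↥G => (g : Perm α) u ∈ ({a} : Finset α) ∧
            (g : Perm α) v ∈ ({b} : Finset α) ∧ (g : Perm α) q ∈ (S.erase a).erase b ∧
            (g : Perm α) (x q) ∈ Sᶜ) ?_).trans ?_
          · intro g hg
            simp only [E', Finset.mem_filter, Finset.mem_univ, true_and, Prod.mk.injEq] at hg
            obtain ⟨⟨-, -, h, h'⟩, e1, e2⟩ := hg
            simp only [Finset.mem_filter, Finset.mem_univ, true_and, Finset.mem_singleton, Finset.mem_erase]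
            refine ⟨by rw [← e1]; simp, by rw [← e2]; simp, ⟨fun e => hv ?_, fun e => hu2 ?_, h⟩, h'⟩
            · rw [← e2, ← e]; simpa using hq
            · rw [← e1, ← e]; simp
          · rw [count4 h4 (a := u) (b := v) (c := q) (d := x q) ⟨fun e => hv (e ▸ huS), hu2, hu1,
              fun e => hv (e ▸ hq), fun e => hv (e ▸ hxq), hqq⟩ h₀, card_disjoint4 _ _ _ _
              (Finset.disjoint_singleton.mpr hab) (Finset.disjoint_singleton_left.mpr (by simp))
              (Finset.disjoint_singleton_left.mpr (by simpa using ha))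
              (Finset.disjoint_singleton_left.mpr (by simp))
              (Finset.disjoint_singleton_left.mpr (by simpa using hbS))
              (Finset.disjoint_of_subset_left ((Finset.erase_subset _ _).trans (Finset.erase_subset _ _)) hdisj),
              hSc, ← hK, Finset.card_singleton, Finset.card_singleton, one_mul, one_mul,
              Finset.card_erase_of_mem (Finset.mem_erase.mpr ⟨hab.symm, hbS⟩), Finset.card_erase_of_mem ha,
              show S.card - 1 - 1 = m - 2 by omega]
        have h3' := Finset.sum_le_card_nsmul _ _ _ h3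
        rw [smul_eq_mul, Finset.card_erase_of_mem (Finset.mem_erase.mpr ⟨hqq.symm, hxq⟩),
          Finset.card_erase_of_mem hq, show S.card - 1 - 1 = m - 2 by omega] at h3'
        rw [show (n - m) * ((n - 3 + (m - 2) * (m - 2)) * K) =
          (n - m) * (n - 3) * K + (m - 2) * ((m - 2) * (n - m) * K) by ring]
        omega
      have := Finset.sum_le_card_nsmul _ _ _ hv
      rwa [smul_eq_mul, hSc] at this
    have := Finset.sum_le_card_nsmul _ _ _ hq
    rw [smul_eq_mul] at this
    refine this.trans (le_of_eq ?_)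
    rw [hP]
    ring
  have hPpos : 0 < P := Nat.mul_pos (Nat.mul_pos (by omega) (by omega)) hKpos
  rw [hEc] at hsum
  by_cases h2 : x * x = 1
  · rw [if_pos h2] at hX
    have hm6 : 6 ≤ m ∧ m ≠ 7 := by
      have he : 2 ∣ m := Perm.two_dvd_card_support (by rw [sq, h2])
      have : m ≠ 4 := fun e => (he4 e).2 h2
      omega
    have hF : P * ((m - 2) * (m - 2)) ≤ ∑ h ∈ E, (F h).card := by
      rw [sum_card_swap]
      refine le_trans ?_ (Finset.sum_le_sum_of_subset
        (s := (S.erase a).erase b) ((Finset.erase_subset _ _).trans (Finset.erase_subset _ _)))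
      have hz : ∀ z ∈ (S.erase a).erase b, m * ((m - 2) * (n - m) * K) ≤
          (E.filter fun h : ↥G => x * x = 1 ∧ (h : Perm α) z ∈ S ∧ y h z = x z).card := by
        intro z hz
        simp only [Finset.mem_erase] at hz
        obtain ⟨hzb, hza, hzS⟩ := hz
        rw [Finset.card_eq_sum_card_fiberwise (t := S) (f := fun h : ↥G => (h : Perm α) z) (by
          intro g hg
          simp only [Finset.mem_coe, Finset.mem_filter] at hg
          exact hg.2.2.1)]
        refine le_trans (le_of_eq ?_) (Finset.card_nsmul_le_sum S _ ((m - 2) * (n - m) * K) ?_)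
        · rw [smul_eq_mul]
        intro q hq
        have hxq : x q ∈ S := (hxS q).mpr hq
        have hqq : q ≠ x q := ((hsupp q).mp hq).symm
        refine le_trans (le_of_eq ?_) (Finset.card_le_card (s := Finset.univ.filter fun g : ↥G =>
          (g : Perm α) a ∈ (S.erase q).erase (x q) ∧ (g : Perm α) b ∈ Sᶜ ∧
          (g : Perm α) z ∈ ({q} : Finset α) ∧ (g : Perm α) (x z) ∈ ({x q} : Finset α)) ?_)
        · have hxz : x z ≠ a := fun e => hzb (x.injective (by
            rw [e, hb, ← Perm.mul_apply, h2, Perm.one_apply]))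
          rw [count4 h4 (a := a) (b := b) (c := z) (d := x z) ⟨hab, Ne.symm hza, Ne.symm hxz,
            Ne.symm hzb, fun e => hza (x.injective (hb ▸ e)).symm, ((hsupp z).mp hzS).symm⟩ h₀,
            card_disjoint4 _ _ _ _
              (Finset.disjoint_of_subset_left ((Finset.erase_subset _ _).trans (Finset.erase_subset _ _)) hdisj)
              (Finset.disjoint_singleton_right.mpr (by simp))
              (Finset.disjoint_singleton_right.mpr (by simp))
              (Finset.disjoint_singleton_right.mpr (by simpa using hq))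
              (Finset.disjoint_singleton_right.mpr (by simpa using hxq))
              (Finset.disjoint_singleton.mpr hqq), hSc, ← hK, Finset.card_singleton, Finset.card_singleton,
            mul_one, mul_one,
            Finset.card_erase_of_mem (Finset.mem_erase.mpr ⟨hqq.symm, hxq⟩), Finset.card_erase_of_mem hq,
            show S.card - 1 - 1 = m - 2 by omega]
        · intro g hg
          simp only [Finset.mem_filter, Finset.mem_univ, true_and, Finset.mem_singleton, Finset.mem_erase] at hg
          obtain ⟨⟨-, -, hga⟩, hgb, hgz, hgxz⟩ := hg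
          simp only [hE, Finset.mem_filter, Finset.mem_univ, true_and, hgz]
          refine ⟨⟨⟨hga, hgb⟩, h2, hq, ?_⟩, trivial⟩
          simp only [y, Perm.mul_apply, hgz, Perm.inv_eq_iff_eq]
          exact hgxz.symm
      refine le_trans (le_of_eq ?_) (Finset.card_nsmul_le_sum _ _ _ hz)
      rw [smul_eq_mul, Finset.card_erase_of_mem (Finset.mem_erase.mpr ⟨hab.symm, hbS⟩),
        Finset.card_erase_of_mem ha, show S.card - 1 - 1 = m - 2 by omega, hP]
      ring
    have hc := Nat.mul_lt_mul_of_pos_left (arith_inv hm6.1 hn (fun e => he6 h2 e) hm6.2) hPpos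
    simp only [mul_add] at hc hI hX hY
    rw [← mul_assoc m, mul_comm m P, mul_assoc] at hsum
    omega
  · rw [if_neg h2] at hX
    have hc := Nat.mul_lt_mul_of_pos_left (arith_gen hm4 hn (fun e => (he4 e).1)) hPpos
    simp only [mul_add] at hc hI hX hY
    rw [← mul_assoc m, mul_comm m P, mul_assoc] at hsum
    omega

end Cfsg.Agent.Marggraf
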