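import Cfsg.Agent.Marggraf.MinDegree
import Cfsg.Agent.S0712

/-!
# No element shorter than the Jordan set

If every non-identity element moves at least `k` points, two Jordan `k`-sets which meet share at least
`(k - 1) / 2` points; in a 4-transitive group of degree more than `2k` this is too many on average.
-/

namespace Cfsg.Agent.Marggraf

open Equiv Equiv.Perm MulAction
open scoped commutatorElement Pointwise

variable {α : Type*} [DecidableEq α] [Fintype α] {G : Subgroup (Perm α)}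

/-- Elements of `G` fixing everything outside `Γ`. -/
def outFix (G : Subgroup (Perm α)) (Γ : Finset α) : Subgroup (Perm α) where
  carrier := {g | g ∈ G ∧ ∀ z, z ∉ Γ → g z = z}
  one_mem' := ⟨one_mem G, fun _ _ => rfl⟩
  mul_mem' := fun {g h} hg hh => ⟨mul_mem hg.1 hh.1, fun z hz => by
    rw [Perm.mul_apply, hh.2 z hz, hg.2 z hz]⟩
  inv_mem' := fun {g} hg => ⟨inv_mem hg.1, fun z hz => by rw [Perm.inv_eq_iff_eq, hg.2 z hz]⟩

omit [DecidableEq α] [Fintype α] in
theorem mem_outFix {Γ : Finset α} {g : Perm α} : g ∈ outFix G Γ ↔ g ∈ G ∧ ∀ z, z ∉ Γ → g z = z :=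
  Iff.rfl

variable {k : ℕ} (hmin : ∀ g ∈ G, g ≠ 1 → k ≤ g.support.card)
include hmin

theorem support_eq {Γ : Finset α} (hk : Γ.card = k) {g : Perm α} (hg : g ∈ outFix G Γ) (h1 : g ≠ 1) :
    g.support = Γ := by
  refine Finset.eq_of_subset_of_card_le (fun z hz => ?_) (hk ▸ hmin g hg.1 h1)
  by_contra h
  exact Perm.mem_support.mp hz (hg.2 z h)

theorem fixed_eq_one {Γ : Finset α} (hk : Γ.card = k) {g : Perm α} (hg : g ∈ outFix G Γ) {a : α}
    (ha : a ∈ Γ) (e : g a = a) : g = 1 := by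
  by_contra h1
  rw [← support_eq hmin hk hg h1] at ha
  exact Perm.mem_support.mp ha e

theorem card_outFix_filter {Γ : Finset α} (hJ : JSet G Γ) (hk : Γ.card = k) {a : α} (ha : a ∈ Γ)
    (P : α → Prop) [DecidablePred P] [DecidablePred (· ∈ outFix G Γ)] :
    ((Finset.univ.filter (· ∈ outFix G Γ)).filter fun g => P (g a)).card = (Γ.filter P).card := by
  refine Finset.card_bij (fun g _ => g a) ?_ ?_ ?_
  · intro g hg
    simp only [Finset.mem_filter, Finset.mem_univ, true_and] at hg ⊢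
    refine ⟨?_, hg.2⟩
    by_contra h
    exact h ((g.injective (hg.1.2 _ h)).symm ▸ ha)
  · intro g hg g' hg' e
    simp only [Finset.mem_filter, Finset.mem_univ, true_and] at hg hg'
    have : g'⁻¹ * g = 1 := fixed_eq_one hmin hk (mul_mem (inv_mem hg'.1) hg.1) ha
      (by rw [Perm.mul_apply, Perm.inv_eq_iff_eq]; exact e)
    exact (inv_mul_eq_one.mp this).symm
  · intro b hb
    simp only [Finset.mem_filter] at hb
    obtain ⟨g, hg, hfix, rfl⟩ := hJ a ha b hb.1
    exact ⟨g, by simpa [mem_outFix] using ⟨⟨hg, hfix⟩, hb.2⟩, rfl⟩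

omit hmin in
theorem free_dvd {H : Subgroup (Perm α)} [DecidablePred (· ∈ H)] {Z : Finset α}
    (hinv : ∀ g ∈ H, ∀ z ∈ Z, g z ∈ Z) (hfree : ∀ g ∈ H, ∀ z ∈ Z, g z = z → g = 1) :
    (Finset.univ.filter (· ∈ H)).card ∣ Z.card := by
  set Hf := Finset.univ.filter (· ∈ H) with hHf
  let f : α → Finset α := fun z => Hf.image fun g => g z
  have key : ∀ z ∈ Z, (f z).card = Hf.card := fun z hz => Finset.card_image_of_injOn fun g hg g' hg' e => by
    simp only [hHf, Finset.mem_coe, Finset.mem_filter, Finset.mem_univ, true_and] at hg hg'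
    have : g'⁻¹ * g = 1 := hfree _ (mul_mem (inv_mem hg') hg) z hz
      (by rw [Perm.mul_apply, Perm.inv_eq_iff_eq]; exact e)
    exact (inv_mul_eq_one.mp this).symm
  rw [Finset.card_eq_sum_card_image f Z]
  refine Finset.dvd_sum fun O hO => ?_
  obtain ⟨z, hz, rfl⟩ := Finset.mem_image.mp hO
  refine dvd_of_eq ((key z hz).symm.trans (congrArg Finset.card (Finset.ext fun w => ?_)))
  simp only [f, hHf, Finset.mem_image, Finset.mem_filter, Finset.mem_univ, true_and]
  constructor
  · rintro ⟨g, hg, rfl⟩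
    refine ⟨hinv g hg z hz, Finset.ext fun u => ?_⟩
    simp only [Finset.mem_image, Finset.mem_filter, Finset.mem_univ, true_and]
    constructor
    · rintro ⟨g', hg', rfl⟩
      exact ⟨g' * g, mul_mem hg' hg, by simp⟩
    · rintro ⟨g', hg', rfl⟩
      exact ⟨g' * g⁻¹, mul_mem hg' (inv_mem hg), by simp⟩
  · rintro ⟨-, e⟩
    have h' : w ∈ (Finset.univ.filter (· ∈ H)).image fun g => g w :=
      Finset.mem_image.mpr ⟨1, by simp, rfl⟩
    rw [e] at h'
    simpa using h'

theorem overlap {Γ T : Finset α} (hΓ : JSet G Γ) (hΓk : Γ.card = k) (hT : JSet G T) (hTk : T.card = k)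
    (hne : (Γ ∩ T).Nonempty) (hdiff : Γ ≠ T) : k ≤ 2 * (Γ ∩ T).card + 1 := by
  classical
  set A := Γ ∩ T with hA
  set i := A.card with hi
  have hipos : 1 ≤ i := hne.card_pos
  have hik : i < k := by
    rw [← hΓk]
    refine Finset.card_lt_card (Finset.ssubset_iff_subset_ne.mpr ⟨Finset.inter_subset_left, fun e => hdiff ?_⟩)
    exact Finset.eq_of_subset_of_card_le (Finset.inter_eq_left.mp e) (by rw [hΓk, hTk])
  by_contra hcon
  set J := Finset.univ.filter (· ∈ outFix G Γ) with hJ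
  set J' := Finset.univ.filter (· ∈ outFix G T) with hJ'
  let F : Perm α → ℕ := fun x => (A.filter fun z => x z ∉ T).card
  let F' : Perm α → ℕ := fun y => (A.filter fun z => y z ∉ Γ).card
  have hstay : ∀ {Z : Finset α} {g : Perm α}, g ∈ outFix G Z → ∀ z ∈ Z, g z ∈ Z := by
    intro Z g hg z hz
    by_contra h
    exact h ((g.injective (hg.2 _ h)).symm ▸ hz)
  have hsumF : ∀ (X Y : Finset α), JSet G X → X.card = k → (∀ z ∈ A, z ∈ X) → A = X ∩ Y →
      ∑ x ∈ Finset.univ.filter (· ∈ outFix G X), (A.filter fun z => x z ∉ Y).card = i * (k - i) := by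
    intro X Y hX hXk hAX hAe
    rw [sum_card_swap, Finset.sum_congr rfl (fun z hz => card_outFix_filter hmin hX hXk (hAX z hz) (· ∉ Y)),
      Finset.sum_const, smul_eq_mul]
    have : X.filter (· ∉ Y) = X \ Y := by ext; simp
    have h2 := Finset.card_sdiff_add_card_inter X Y
    rw [this, ← hi, show (X \ Y).card = k - i by rw [hi, hAe]; omega]
  have hF : ∑ x ∈ J, F x = i * (k - i) := hsumF Γ T hΓ hΓk (fun z hz => (Finset.mem_inter.mp hz).1) rfl
  have hF' : ∑ y ∈ J', F' y = i * (k - i) :=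
    hsumF T Γ hT hTk (fun z hz => (Finset.mem_inter.mp hz).2) (Finset.inter_comm Γ T)
  have hJc : ∀ (X : Finset α), JSet G X → X.card = k → X.Nonempty →
      (Finset.univ.filter (· ∈ outFix G X)).card = k := by
    intro X hX hXk ⟨a, ha⟩
    have := card_outFix_filter hmin hX hXk ha (fun _ => True)
    simpa [hXk] using this
  have hJk : J.card = k := hJc Γ hΓ hΓk (hne.mono Finset.inter_subset_left)
  have hJ'k : J'.card = k := hJc T hT hTk (hne.mono Finset.inter_subset_right)
  let St : Finset (Perm α) := J.filter fun x => ∀ z ∈ A, x z ∈ T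
  let St' : Finset (Perm α) := J'.filter fun y => ∀ z ∈ A, y z ∈ Γ
  have hdvd : ∀ (X Y : Finset α), X.card = k → A = X ∩ Y →
      ((Finset.univ.filter (· ∈ outFix G X)).filter fun x => ∀ z ∈ A, x z ∈ Y).card ∣ i ∧
      ((Finset.univ.filter (· ∈ outFix G X)).filter fun x => ∀ z ∈ A, x z ∈ Y).card ∣ k := by
    intro X Y hXk hAe
    have hinvA : ∀ g ∈ outFix G X, (∀ z ∈ A, g z ∈ Y) → ∀ z ∈ A, g z ∈ A := fun g hg h z hz => by
      have hzX : z ∈ X := (Finset.mem_inter.mp (hAe ▸ hz : z ∈ X ∩ Y)).1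
      rw [hAe]
      exact Finset.mem_inter.mpr ⟨hstay hg z hzX, h z hz⟩
    let H : Subgroup (Perm α) :=
      { carrier := {g | g ∈ outFix G X ∧ ∀ z ∈ A, g z ∈ A}
        one_mem' := ⟨one_mem _, fun z hz => hz⟩
        mul_mem' := fun {g h} hg hh => ⟨mul_mem hg.1 hh.1, fun z hz => hg.2 _ (hh.2 z hz)⟩
        inv_mem' := fun {g} hg => ⟨inv_mem hg.1, fun z hz => by
          have e : A.map g.toEmbedding = A := Finset.eq_of_subset_of_card_le (fun w hw => by
            obtain ⟨u, hu, rfl⟩ := Finset.mem_map.mp hw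
            exact hg.2 u hu) (by rw [Finset.card_map])
          rw [← e] at hz
          obtain ⟨u, hu, rfl⟩ := Finset.mem_map.mp hz
          simpa using hu⟩ }
    have eH : ((Finset.univ.filter (· ∈ outFix G X)).filter fun x => ∀ z ∈ A, x z ∈ Y) =
        Finset.univ.filter (· ∈ H) := by
      ext g
      simp only [Finset.mem_filter, Finset.mem_univ, true_and]
      exact ⟨fun hg => ⟨hg.1, hinvA g hg.1 hg.2⟩,
        fun hg => ⟨hg.1, fun z hz => (Finset.mem_inter.mp (hAe ▸ hg.2 z hz : g z ∈ X ∩ Y)).2⟩⟩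
    rw [eH]
    exact ⟨free_dvd (Z := A) (fun g hg => hg.2) fun g hg z hz e =>
        fixed_eq_one hmin hXk hg.1 (Finset.mem_inter.mp (hAe ▸ hz : z ∈ X ∩ Y)).1 e,
      hXk ▸ free_dvd (Z := X) (fun g hg => hstay hg.1) fun g hg z hz e =>
        fixed_eq_one hmin hXk hg.1 hz e⟩
  obtain ⟨hsi, hsk⟩ := hdvd Γ T hΓk rfl
  obtain ⟨hsi', hsk'⟩ := hdvd T Γ hTk (Finset.inter_comm Γ T)
  change St.card ∣ i at hsi
  change St.card ∣ k at hsk
  change St'.card ∣ i at hsi'
  have h1St : (1 : Perm α) ∈ St := by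
    simp only [St, hJ, Finset.mem_filter, Finset.mem_univ, true_and]
    exact ⟨one_mem _, fun z hz => (Finset.mem_inter.mp hz).2⟩
  have h1St' : (1 : Perm α) ∈ St' := by
    simp only [St', hJ', Finset.mem_filter, Finset.mem_univ, true_and]
    exact ⟨one_mem _, fun z hz => (Finset.mem_inter.mp hz).1⟩
  set P := (J.erase 1) ×ˢ (J'.erase 1) with hP
  set Bad := (St.erase 1) ×ˢ (St'.erase 1) with hBad
  have hBP : Bad ⊆ P := Finset.product_subset_product (Finset.erase_subset_erase _ (Finset.filter_subset _ _))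
    (Finset.erase_subset_erase _ (Finset.filter_subset _ _))
  have hgood : ∀ p ∈ P \ Bad, k ≤ i + F p.1 + F' p.2 := by
    rintro ⟨x, y⟩ hp
    simp only [hP, hBad, Finset.mem_sdiff, Finset.mem_product, Finset.mem_erase] at hp
    obtain ⟨⟨⟨hx1, hx⟩, hy1, hy⟩, hb⟩ := hp
    simp only [hJ, hJ', Finset.mem_filter, Finset.mem_univ, true_and] at hx hy
    have hxs := support_eq hmin hΓk hx hx1
    have hys := support_eq hmin hTk hy hy1
    have hne1 : ⁅x, y⁆ ≠ 1 := by
      rw [Ne, commutatorElement_eq_one_iff_commute]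
      intro hc
      have key : ∀ {u v : Perm α}, Commute u v → ∀ z ∈ v.support, u z ∈ v.support := by
        intro u v huv z hz
        rw [Perm.mem_support] at hz ⊢
        rw [← Perm.mul_apply, ← huv.eq, Perm.mul_apply]
        exact fun e => hz (u.injective e)
      refine hb ⟨⟨hx1, ?_⟩, hy1, ?_⟩
      · simp only [St, hJ, Finset.mem_filter, Finset.mem_univ, true_and]
        exact ⟨hx, fun z hz => hys ▸ key hc z (hys.symm ▸ (Finset.mem_inter.mp hz).2)⟩
      · simp only [St', hJ', Finset.mem_filter, Finset.mem_univ, true_and]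
        exact ⟨hy, fun z hz => hxs ▸ key hc.symm z (hxs.symm ▸ (Finset.mem_inter.mp hz).1)⟩
    have hG : ⁅x, y⁆ ∈ G := by
      rw [commutatorElement_def]
      exact mul_mem (mul_mem (mul_mem hx.1 hy.1) (inv_mem hx.1)) (inv_mem hy.1)
    refine (hmin _ hG hne1).trans ((Finset.card_le_card (support_commutator_subset x y)).trans ?_)
    rw [hxs, hys, ← hA]
    refine (Finset.card_union_le _ _).trans (Nat.add_le_add ?_ Finset.card_image_le)
    exact (Finset.card_union_le _ _).trans (Nat.add_le_add le_rfl Finset.card_image_le)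
  have hbad : ∀ p ∈ Bad, F p.1 + F' p.2 = 0 := by
    rintro ⟨x, y⟩ hp
    simp only [hBad, St, St', Finset.mem_product, Finset.mem_erase, Finset.mem_filter] at hp
    simp only [F, F', Nat.add_eq_zero_iff, Finset.card_eq_zero, Finset.filter_eq_empty_iff, not_not]
    exact ⟨hp.1.2.2, hp.2.2.2⟩
  have h1 := Finset.card_nsmul_le_sum _ _ _ hgood
  have h2 : ∑ p ∈ P, (i + F p.1 + F' p.2) =
      ∑ p ∈ P \ Bad, (i + F p.1 + F' p.2) + Bad.card * i := by
    rw [← Finset.sum_sdiff hBP, Finset.sum_eq_card_nsmul (s := Bad) (b := i) (fun p hp => by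
      rw [add_assoc, hbad p hp, add_zero]), smul_eq_mul]
  have hz1 : F 1 = 0 := by
    simp only [F, Finset.card_eq_zero, Finset.filter_eq_empty_iff, not_not]
    exact fun z hz => (Finset.mem_inter.mp hz).2
  have hz1' : F' 1 = 0 := by
    simp only [F', Finset.card_eq_zero, Finset.filter_eq_empty_iff, not_not]
    exact fun z hz => (Finset.mem_inter.mp hz).1
  have h1J : (1 : Perm α) ∈ J := (Finset.mem_filter.mp h1St).1
  have h1J' : (1 : Perm α) ∈ J' := (Finset.mem_filter.mp h1St').1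
  have h3 : ∑ p ∈ P, (i + F p.1 + F' p.2) =
      (k - 1) * (k - 1) * i + 2 * ((k - 1) * (i * (k - i))) := by
    rw [hP, Finset.sum_product]
    simp only [Finset.sum_add_distrib, Finset.sum_const, smul_eq_mul]
    rw [← Finset.mul_sum, Finset.sum_erase _ hz1, Finset.sum_erase _ hz1', hF, hF',
      Finset.card_erase_of_mem h1J, Finset.card_erase_of_mem h1J', hJk, hJ'k]
    ring
  rw [smul_eq_mul, Finset.card_sdiff_of_subset hBP, hP, hBad, Finset.card_product, Finset.card_product,
    Finset.card_erase_of_mem h1J, Finset.card_erase_of_mem h1J', hJk, hJ'k, Finset.card_erase_of_mem h1St,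
    Finset.card_erase_of_mem h1St'] at h1
  rw [h3, hBad, Finset.card_product, Finset.card_erase_of_mem h1St, Finset.card_erase_of_mem h1St'] at h2
  obtain ⟨d, hd⟩ := Nat.exists_eq_add_of_le (show 2 * i + 2 ≤ k by omega)
  have hsd : St.card ≤ d + 2 := Nat.le_of_dvd (by omega) (by
    have h := Nat.dvd_sub hsk (hsi.mul_left 2)
    rwa [show k - 2 * i = d + 2 by omega] at h)
  have hs' : St'.card ≤ i := Nat.le_of_dvd hipos hsi'
  have hp1 := Finset.card_pos.mpr ⟨_, h1St⟩
  have hp2 := Finset.card_pos.mpr ⟨_, h1St'⟩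
  obtain ⟨u, hu⟩ := Nat.exists_eq_add_of_le hp1
  obtain ⟨v, hv⟩ := Nat.exists_eq_add_of_le hp2
  generalize ∑ p ∈ (J.erase 1 ×ˢ J'.erase 1) \ ((St.erase 1) ×ˢ (St'.erase 1)), (i + F p.1 + F' p.2) = W at *
  simp only [show St.card - 1 = u by omega, show St'.card - 1 = v by omega,
    show k - 1 = 2 * i + d + 1 by omega, show k - i = i + d + 2 by omega] at h1 h2
  have huv : u * v ≤ (d + 1) * (i - 1) := Nat.mul_le_mul (by omega) (by omega)
  clear_value i
  obtain ⟨i₀, rfl⟩ := Nat.exists_eq_add_of_le hipos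
  rw [show 1 + i₀ - 1 = i₀ by omega] at huv
  have hle : u * v ≤ (2 * (1 + i₀) + d + 1) * (2 * (1 + i₀) + d + 1) :=
    Nat.mul_le_mul (by omega) (by omega)
  obtain ⟨g, hg⟩ := Nat.exists_eq_add_of_le hle
  rw [hg, Nat.add_sub_cancel_left, hd] at h1
  have hpos : 0 < (d + 1) * ((1 + i₀ + d + 2) * (1 + i₀ + d + 2)) :=
    Nat.mul_pos (by omega) (Nat.mul_pos (by omega) (by omega))
  nlinarith [Nat.mul_le_mul_left (1 + i₀ + d + 2) huv, hpos]

end Cfsg.Agent.Marggraf
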